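import Groth.Prelude.Def_W4c1nerontoraddGraph
import Mathlib.Tactic
import Mathlib.Data.ZMod.Basic

/-!
# Basic facts on the finite multigraphs of `LabGraph`: reachability inside a set of edges, even edge sets, circuits
-/

set_option autoImplicit false
set_option linter.unusedSectionVars false
set_option linter.unnecessarySeqFocus false

universe u

namespace K794.Basic

open LabGraph

section Reach

variable {V E : Type u}

/-- Two vertices joined by a chain of edges belonging to `F`. -/
def Reach (ends : E → V × V) (F : Set E) (v w : V) : Prop :=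
  Relation.ReflTransGen (fun a b => ∃ e ∈ F, ends e = (a, b) ∨ ends e = (b, a)) v w

variable {ends : E → V × V} {F G : Set E}

theorem Reach.refl (ends : E → V × V) (F : Set E) (v : V) : Reach ends F v v :=
  Relation.ReflTransGen.refl

theorem Reach.trans {a b c : V} (h : Reach ends F a b) (h' : Reach ends F b c) : Reach ends F a c :=
  Relation.ReflTransGen.trans h h'

theorem Reach.symm {a b : V} (h : Reach ends F a b) : Reach ends F b a := by
  induction h with
  | refl => exact Reach.refl _ _ _
  | tail _ hbc ih =>
    obtain ⟨e, he, h⟩ := hbc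
    exact Relation.ReflTransGen.head ⟨e, he, h.symm⟩ ih

theorem Reach.mono {a b : V} (hFG : ∀ e ∈ F, e ∈ G) (h : Reach ends F a b) : Reach ends G a b := by
  induction h with
  | refl => exact Reach.refl _ _ _
  | tail _ hbc ih =>
    obtain ⟨e, he, h⟩ := hbc
    exact Relation.ReflTransGen.tail ih ⟨e, hFG e he, h⟩

theorem reach_edge {e : E} (he : e ∈ F) : Reach ends F (ends e).1 (ends e).2 :=
  Relation.ReflTransGen.single ⟨e, he, Or.inl rfl⟩

theorem reach_edge' {e : E} (he : e ∈ F) {a b : V} (h : ends e = (a, b)) : Reach ends F a b :=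
  Relation.ReflTransGen.single ⟨e, he, Or.inl h⟩

/-- If every edge of `F` has its two endpoints joined inside `G`, reachability in `F` implies reachability in `G`. -/
theorem Reach.of_edges {a b : V} (hFG : ∀ e ∈ F, Reach ends G (ends e).1 (ends e).2)
    (h : Reach ends F a b) : Reach ends G a b := by
  induction h with
  | refl => exact Reach.refl _ _ _
  | tail _ hbc ih =>
    obtain ⟨e, he, h | h⟩ := hbc
    · have := hFG e he
      rw [h] at this
      exact ih.trans this
    · have := hFG e he
      rw [h] at this
      exact ih.trans this.symm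

/-- A function constant across every edge of `F` is constant on the pieces of `F`. -/
theorem Reach.eq_of_const {α : Sort*} {f : V → α} (hf : ∀ e ∈ F, f (ends e).1 = f (ends e).2)
    {a b : V} (h : Reach ends F a b) : f a = f b := by
  induction h with
  | refl => rfl
  | tail _ hbc ih =>
    obtain ⟨e, he, h | h⟩ := hbc
    · have := hf e he
      rw [h] at this
      exact ih.trans this
    · have := hf e he
      rw [h] at this
      exact ih.trans this.symm

/-- A vertex property preserved across the edges of `F` propagates along `F`. -/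
theorem Reach.mem_of_closed {S : Set V} (hS : ∀ e ∈ F, (ends e).1 ∈ S ↔ (ends e).2 ∈ S)
    {a b : V} (h : Reach ends F a b) (ha : a ∈ S) : b ∈ S := by
  have := Reach.eq_of_const (f := fun v => v ∈ S) (fun e he => propext (hS e he)) h
  exact this ▸ ha

/-- If `b` is reachable from `a ∈ S` and `b ∉ S`, some edge of `F` crosses `S`. -/
theorem Reach.exists_cross {S : Set V} {a b : V} (h : Reach ends F a b) (ha : a ∈ S) (hb : b ∉ S) :
    ∃ e ∈ F, ((ends e).1 ∈ S ∧ (ends e).2 ∉ S) ∨ ((ends e).1 ∉ S ∧ (ends e).2 ∈ S) := by
  by_contra hcon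
  push Not at hcon
  refine hb (h.mem_of_closed (S := S) (fun e he => ?_) ha)
  have := hcon e he
  tauto

/-- Removing an edge: either `a` and `b` are still joined, or each is joined to an end of the removed edge. -/
theorem Reach.erase_or {a b : V} (h : Reach ends F a b) (e : E) :
    Reach ends (F \ {e}) a b ∨
      (Reach ends (F \ {e}) a (ends e).1 ∧ Reach ends (F \ {e}) (ends e).2 b) ∨
      (Reach ends (F \ {e}) a (ends e).2 ∧ Reach ends (F \ {e}) (ends e).1 b) := by
  induction h with
  | refl => exact Or.inl (Reach.refl _ _ _)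
  | @tail b c _ hbc ih =>
    obtain ⟨e', he', h⟩ := hbc
    by_cases hee : e' = e
    · subst hee
      rcases h with h | h
      · have h1 : (ends e').1 = b := by rw [h]
        have h2 : (ends e').2 = c := by rw [h]
        rcases ih with ih | ⟨ih1, ih2⟩ | ⟨ih1, ih2⟩
        · right; left
          refine ⟨h1 ▸ ih, h2 ▸ Reach.refl _ _ _⟩
        · right; left
          exact ⟨ih1, h2 ▸ Reach.refl _ _ _⟩
        · left
          exact h2 ▸ ih1
      · have h1 : (ends e').1 = c := by rw [h]
        have h2 : (ends e').2 = b := by rw [h]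
        rcases ih with ih | ⟨ih1, ih2⟩ | ⟨ih1, ih2⟩
        · right; right
          refine ⟨h2 ▸ ih, h1 ▸ Reach.refl _ _ _⟩
        · left
          exact h1 ▸ ih1
        · right; right
          exact ⟨ih1, h1 ▸ Reach.refl _ _ _⟩
    · have hbc : Reach ends (F \ {e}) b c :=
        Relation.ReflTransGen.single ⟨e', ⟨he', by simpa using hee⟩, h⟩
      rcases ih with ih | ⟨ih1, ih2⟩ | ⟨ih1, ih2⟩
      · exact Or.inl (ih.trans hbc)
      · exact Or.inr (Or.inl ⟨ih1, ih2.trans hbc⟩)
      · exact Or.inr (Or.inr ⟨ih1, ih2.trans hbc⟩)

theorem connected_iff : Connected ends ↔ Nonempty V ∧ ∀ v w : V, Reach ends Set.univ v w := by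
  unfold Connected Reach
  have : (Adj ends) = (fun a b => ∃ e ∈ (Set.univ : Set E), ends e = (a, b) ∨ ends e = (b, a)) := by
    funext a b
    simp [Adj]
  rw [this]

theorem _root_.LabGraph.Connected.reach (h : Connected ends) (v w : V) : Reach ends Set.univ v w :=
  (connected_iff.1 h).2 v w

/-- In a connected graph a function constant across every edge is constant. -/
theorem eq_of_connected {α : Sort*} (hc : Connected ends) {f : V → α}
    (hf : ∀ e, f (ends e).1 = f (ends e).2) (a b : V) : f a = f b :=
  (hc.reach a b).eq_of_const fun e _ => hf e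

end Reach

section Even

variable {V E : Type u} [DecidableEq V]

theorem endCount_singleton (ends : E → V × V) (e : E) (v : V) :
    endCount ends {e} v = (if (ends e).1 = v then 1 else 0) + (if (ends e).2 = v then 1 else 0) := by
  simp [endCount]

theorem endCount_empty (ends : E → V × V) (v : V) : endCount ends ∅ v = 0 := by
  simp [endCount]

theorem endCount_mono (ends : E → V × V) {C D : Finset E} (h : C ⊆ D) (v : V) :
    endCount ends C v ≤ endCount ends D v :=
  Finset.sum_le_sum_of_subset h

theorem endCount_ne_zero_iff (ends : E → V × V) (C : Finset E) (v : V) :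
    endCount ends C v ≠ 0 ↔ ∃ e ∈ C, (ends e).1 = v ∨ (ends e).2 = v := by
  unfold endCount
  rw [ne_eq, Finset.sum_eq_zero_iff]
  push Not
  constructor
  · rintro ⟨e, he, h⟩
    refine ⟨e, he, ?_⟩
    by_contra hcon
    push Not at hcon
    simp [hcon.1, hcon.2] at h
  · rintro ⟨e, he, h⟩
    refine ⟨e, he, ?_⟩
    rcases h with h | h <;> simp [h]

variable [DecidableEq E]

theorem endCount_insert (ends : E → V × V) {C : Finset E} {e : E} (he : e ∉ C) (v : V) :
    endCount ends (insert e C) v = endCount ends {e} v + endCount ends C v := by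
  unfold endCount
  rw [Finset.sum_insert he, Finset.sum_singleton]

theorem endCount_erase (ends : E → V × V) {C : Finset E} {e : E} (he : e ∈ C) (v : V) :
    endCount ends {e} v + endCount ends (C.erase e) v = endCount ends C v := by
  unfold endCount
  rw [Finset.sum_singleton]
  exact Finset.add_sum_erase C
    (fun e => (if (ends e).1 = v then 1 else 0) + (if (ends e).2 = v then 1 else 0)) he

theorem endCount_sdiff (ends : E → V × V) {C D : Finset E} (h : C ⊆ D) (v : V) :
    endCount ends (D \ C) v + endCount ends C v = endCount ends D v := by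
  unfold endCount
  rw [Finset.sum_sdiff h]

theorem sum_endCount [Fintype V] (ends : E → V × V) (C : Finset E) (S : Finset V) :
    ∑ v ∈ S, endCount ends C v =
      ∑ e ∈ C, ((if (ends e).1 ∈ S then 1 else 0) + (if (ends e).2 ∈ S then 1 else 0)) := by
  unfold endCount
  rw [Finset.sum_comm]
  refine Finset.sum_congr rfl fun e _ => ?_
  rw [Finset.sum_add_distrib, Finset.sum_ite_eq, Finset.sum_ite_eq]

/-- In an even edge set, an even number of edges crosses any vertex set. -/
theorem even_card_cross (ends : E → V × V) {C : Finset E}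
    (hC : ∀ v : V, Even (endCount ends C v)) (S : Finset V) :
    Even (C.filter fun e => ((ends e).1 ∈ S ∧ (ends e).2 ∉ S) ∨ ((ends e).1 ∉ S ∧ (ends e).2 ∈ S)).card := by
  have h0 : ∀ S : Finset V, ∑ v ∈ S, endCount ends C v =
      ∑ e ∈ C, ((if (ends e).1 ∈ S then 1 else 0) + (if (ends e).2 ∈ S then 1 else 0)) := by
    intro S
    unfold endCount
    rw [Finset.sum_comm]
    refine Finset.sum_congr rfl fun e _ => ?_
    rw [Finset.sum_add_distrib, Finset.sum_ite_eq, Finset.sum_ite_eq]
  have h2 : ((∑ v ∈ S, endCount ends C v : ℕ) : ZMod 2) = 0 := by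
    push_cast
    refine Finset.sum_eq_zero fun v _ => ?_
    exact ZMod.natCast_eq_zero_iff_even.2 (hC v)
  rw [h0] at h2
  rw [← ZMod.natCast_eq_zero_iff_even, Finset.natCast_card_filter]
  refine Eq.trans ?_ h2
  push_cast
  refine Finset.sum_congr rfl fun e _ => ?_
  have h11 : (1 : ZMod 2) + 1 = 0 := by decide
  by_cases h : (ends e).1 ∈ S <;> by_cases h' : (ends e).2 ∈ S <;> simp [h, h', h11]

/-- Inside an even edge set, the two endpoints of an edge are still joined after removing the edge. -/
theorem reach_sdiff_of_even [Fintype V] (ends : E → V × V) {C : Finset E}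
    (hC : ∀ v : V, Even (endCount ends C v)) {e : E} (he : e ∈ C) :
    Reach ends (C.erase e : Finset E) (ends e).1 (ends e).2 := by
  classical
  by_contra hcon
  set S : Finset V := Finset.univ.filter fun v => Reach ends (C.erase e : Finset E) (ends e).1 v with hS
  have hcross : (C.filter fun e => ((ends e).1 ∈ S ∧ (ends e).2 ∉ S) ∨ ((ends e).1 ∉ S ∧ (ends e).2 ∈ S)) = {e} := by
    ext e'
    simp only [Finset.mem_filter, Finset.mem_singleton]
    constructor
    · rintro ⟨he', h⟩
      by_contra hne
      have hmem : e' ∈ ((C.erase e : Finset E) : Set E) := by simp [hne, he']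
      have hed := reach_edge (ends := ends) hmem
      rcases h with ⟨h1, h2⟩ | ⟨h1, h2⟩
      · simp only [hS, Finset.mem_filter, Finset.mem_univ, true_and] at h1 h2
        exact h2 (h1.trans hed)
      · simp only [hS, Finset.mem_filter, Finset.mem_univ, true_and] at h1 h2
        exact h1 (h2.trans hed.symm)
    · rintro rfl
      refine ⟨he, Or.inl ⟨?_, ?_⟩⟩
      · simp only [hS, Finset.mem_filter, Finset.mem_univ, true_and]
        exact Reach.refl _ _ _
      · simp only [hS, Finset.mem_filter, Finset.mem_univ, true_and]
        exact hcon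
  have := even_card_cross ends hC S
  rw [hcross] at this
  simp at this

theorem natCast_endCount_eq_zero_iff (ends : E → V × V) (C : Finset E) (v : V) :
    ((endCount ends C v : ℕ) : ZMod 2) = 0 ↔ Even (endCount ends C v) :=
  ZMod.natCast_eq_zero_iff_even

/-- A chain from `a` to `b` inside `F` gives an edge set `P ⊆ F` whose parity is `a + b`. -/
theorem Reach.exists_parity {ends : E → V × V} {F : Set E} {a b : V} (h : Reach ends F a b) :
    ∃ P : Finset E, (∀ e ∈ P, e ∈ F) ∧ ∀ v : V, ((endCount ends P v : ℕ) : ZMod 2) =
      (if a = v then 1 else 0) + (if b = v then 1 else 0) := by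
  have hself : ∀ x : ZMod 2, x + x = 0 := by decide
  induction h with
  | refl =>
    refine ⟨∅, by simp, fun v => ?_⟩
    simp only [endCount_empty, Nat.cast_zero]
    exact (hself _).symm
  | @tail b c _ hbc ih =>
    obtain ⟨P, hPF, hP⟩ := ih
    obtain ⟨e, heF, h⟩ := hbc
    have he : ∀ v, ((endCount ends {e} v : ℕ) : ZMod 2) = (if b = v then 1 else 0) + (if c = v then 1 else 0) := by
      intro v
      rw [endCount_singleton]
      rcases h with h | h
      · rw [h]; push_cast; rfl
      · rw [h]; push_cast; rw [add_comm]
    by_cases heP : e ∈ P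
    · refine ⟨P.erase e, fun e' he' => hPF e' (Finset.mem_of_mem_erase he'), fun v => ?_⟩
      have h1 : ((endCount ends {e} v : ℕ) : ZMod 2) + ((endCount ends (P.erase e) v : ℕ) : ZMod 2) =
          ((endCount ends P v : ℕ) : ZMod 2) := by
        rw [← Nat.cast_add, endCount_erase ends heP]
      rw [he, hP] at h1
      have h2 : ((endCount ends (P.erase e) v : ℕ) : ZMod 2) =
          ((if a = v then 1 else 0) + (if b = v then 1 else 0)) - ((if b = v then 1 else 0) + (if c = v then 1 else 0)) := by
        rw [← h1]; ring
      rw [h2]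
      generalize (if a = v then (1 : ZMod 2) else 0) = x
      generalize (if b = v then (1 : ZMod 2) else 0) = y
      generalize (if c = v then (1 : ZMod 2) else 0) = z
      revert x y z
      decide
    · refine ⟨insert e P, fun e' he' => ?_, fun v => ?_⟩
      · rcases Finset.mem_insert.1 he' with rfl | he'
        · exact heF
        · exact hPF e' he'
      rw [endCount_insert ends heP, Nat.cast_add, he, hP]
      generalize (if a = v then (1 : ZMod 2) else 0) = x
      generalize (if b = v then (1 : ZMod 2) else 0) = y
      generalize (if c = v then (1 : ZMod 2) else 0) = z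
      revert x y z
      decide

/-- An even edge set containing `e` contains a circuit through `e`. -/
theorem exists_circuit_of_even (ends : E → V × V) (C : Finset E)
    (hC : ∀ v : V, Even (endCount ends C v)) {e : E} (he : e ∈ C) :
    ∃ D ⊆ C, e ∈ D ∧ IsCircuit ends D := by
  induction C using Finset.strongInduction with
  | H C ih =>
    by_cases hcirc : IsCircuit ends C
    · exact ⟨C, subset_rfl, he, hcirc⟩
    · have : ∃ C' : Finset E, C' ⊂ C ∧ C'.Nonempty ∧ ∀ v, Even (endCount ends C' v) := by
        by_contra hcon
        push Not at hcon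
        exact hcirc ⟨⟨e, he⟩, hC, fun C' h1 h2 => hcon C' h1 h2⟩
      obtain ⟨C', hss, hne, hev⟩ := this
      by_cases heC' : e ∈ C'
      · obtain ⟨D, hD1, hD2, hD3⟩ := ih C' hss hev heC'
        exact ⟨D, hD1.trans hss.subset, hD2, hD3⟩
      · have hev' : ∀ v, Even (endCount ends (C \ C') v) := by
          intro v
          have h1 := endCount_sdiff ends hss.subset v
          have h2 := hC v
          rw [← h1, Nat.even_add] at h2
          exact h2.2 (hev v)
        have hss' : C \ C' ⊂ C := by
          refine Finset.ssubset_iff_subset_ne.2 ⟨Finset.sdiff_subset, fun h => ?_⟩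
          obtain ⟨x, hx⟩ := hne
          have hx' : x ∈ C := hss.subset hx
          rw [← h] at hx'
          exact (Finset.mem_sdiff.1 hx').2 hx
        obtain ⟨D, hD1, hD2, hD3⟩ := ih _ hss' hev' (Finset.mem_sdiff.2 ⟨he, heC'⟩)
        exact ⟨D, hD1.trans Finset.sdiff_subset, hD2, hD3⟩

/-- If the endpoints of `e` are joined by edges of `F` other than `e`, there is a circuit through `e` inside `F ∪ {e}`. -/
theorem exists_circuit_of_reach {ends : E → V × V} {F : Finset E} {e : E} (heF : e ∉ F)
    (h : Reach ends F (ends e).1 (ends e).2) :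
    ∃ D ⊆ insert e F, e ∈ D ∧ IsCircuit ends D := by
  obtain ⟨P, hPF, hP⟩ := h.exists_parity
  have hPF' : P ⊆ F := fun x hx => by simpa using hPF x hx
  have heP : e ∉ P := fun h => heF (hPF' h)
  have hev : ∀ v, Even (endCount ends (insert e P) v) := by
    intro v
    rw [← natCast_endCount_eq_zero_iff, endCount_insert ends heP, Nat.cast_add, hP, endCount_singleton]
    push_cast
    generalize (if (ends e).1 = v then (1 : ZMod 2) else 0) = x
    generalize (if (ends e).2 = v then (1 : ZMod 2) else 0) = y
    revert x y
    decide
  obtain ⟨D, hD, heD, hcirc⟩ := exists_circuit_of_even ends _ hev (Finset.mem_insert_self e P)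
  exact ⟨D, hD.trans (Finset.insert_subset_insert _ hPF'), heD, hcirc⟩

/-- An edge set without circuit: removing any edge disconnects its endpoints. -/
theorem not_reach_of_forest {ends : E → V × V} {F : Finset E}
    (hF : ∀ C ⊆ F, ¬ IsCircuit ends C) {e : E} (he : e ∈ F) :
    ¬ Reach ends (F.erase e : Finset E) (ends e).1 (ends e).2 := by
  intro h
  obtain ⟨D, hD, _, hcirc⟩ := exists_circuit_of_reach (Finset.notMem_erase e F) h
  rw [Finset.insert_erase he] at hD
  exact hF D hD hcirc

/-- Removing an edge of a circuit does not change the pieces. -/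
theorem reach_erase_of_circuit [Fintype V] {ends : E → V × V} {C : Finset E} (hC : IsCircuit ends C)
    {e : E} (he : e ∈ C) : Reach ends (C.erase e : Finset E) (ends e).1 (ends e).2 :=
  reach_sdiff_of_even ends hC.2.1 he

end Even

section Chains

variable {V E : Type u} [Fintype E] [DecidableEq V] [DecidableEq E]

theorem boundary_add (ends : E → V × V) (γ δ : E → ℤ) (v : V) :
    boundary ends (fun e => γ e + δ e) v = boundary ends γ v + boundary ends δ v := by
  unfold boundary
  rw [← Finset.sum_add_distrib]
  refine Finset.sum_congr rfl fun e _ => ?_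
  by_cases h1 : (ends e).2 = v <;> by_cases h2 : (ends e).1 = v <;> simp [h1, h2] <;> ring

theorem boundary_single (ends : E → V × V) (e : E) (c : ℤ) (v : V) :
    boundary ends (fun e' => if e' = e then c else 0) v =
      (if (ends e).2 = v then c else 0) - (if (ends e).1 = v then c else 0) := by
  unfold boundary
  rw [Finset.sum_eq_single e]
  · simp
  · intro e' _ hne
    simp [hne]
  · simp

/-- A chain from `a` to `b` inside `F` gives an integer edge vector supported on `F` with boundary `b - a`. -/
theorem Reach.exists_chain {ends : E → V × V} {F : Set E} {a b : V} (h : Reach ends F a b) :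
    ∃ γ : E → ℤ, (∀ e, e ∉ F → γ e = 0) ∧ ∀ v : V, boundary ends γ v =
      (if b = v then 1 else 0) - (if a = v then 1 else 0) := by
  induction h with
  | refl =>
    refine ⟨fun _ => 0, fun _ _ => rfl, fun v => ?_⟩
    simp [boundary]
  | @tail b c _ hbc ih =>
    obtain ⟨γ, hγF, hγ⟩ := ih
    obtain ⟨e, heF, h⟩ := hbc
    rcases h with h | h
    · refine ⟨fun e' => γ e' + (if e' = e then 1 else 0), fun e' he' => ?_, fun v => ?_⟩
      · have : e' ≠ e := fun hh => he' (hh ▸ heF)
        simp [hγF e' he', this]
      · rw [boundary_add ends γ (fun e' => if e' = e then 1 else 0), hγ, boundary_single, h]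
        ring
    · refine ⟨fun e' => γ e' + (if e' = e then -1 else 0), fun e' he' => ?_, fun v => ?_⟩
      · have : e' ≠ e := fun hh => he' (hh ▸ heF)
        simp [hγF e' he', this]
      · rw [boundary_add ends γ (fun e' => if e' = e then -1 else 0), hγ, boundary_single, h]
        by_cases h1 : b = v <;> by_cases h2 : c = v <;> by_cases h3 : a = v <;> simp [h1, h2, h3]

/-- Pairing of an edge vector with a coboundary. -/
theorem sum_mul_coboundary [Fintype V] (ends : E → V × V) (γ : E → ℤ) (φ : V → ℤ) :
    ∑ e : E, γ e * (φ (ends e).2 - φ (ends e).1) = ∑ v : V, φ v * boundary ends γ v := by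
  unfold boundary
  simp_rw [Finset.mul_sum]
  rw [Finset.sum_comm]
  refine Finset.sum_congr rfl fun e _ => ?_
  simp_rw [mul_sub, Finset.sum_sub_distrib, mul_ite, mul_zero]
  rw [Finset.sum_ite_eq, Finset.sum_ite_eq]
  simp
  ring

/-- Every circuit supports an integer cycle with coefficient `1` at a given edge. -/
theorem exists_cycle_of_circuit [Fintype V] {ends : E → V × V} {C : Finset E} (hC : IsCircuit ends C)
    {e : E} (he : e ∈ C) : ∃ γ : E → ℤ, (∀ e', e' ∉ C → γ e' = 0) ∧ γ e = 1 ∧
      ∀ v : V, boundary ends γ v = 0 := by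
  obtain ⟨γ, hγF, hγ⟩ := (reach_erase_of_circuit hC he).symm.exists_chain
  refine ⟨fun e' => γ e' + (if e' = e then 1 else 0), fun e' he' => ?_, ?_, fun v => ?_⟩
  · have h1 : e' ≠ e := fun hh => he' (hh ▸ he)
    have h2 : e' ∉ ((C.erase e : Finset E) : Set E) := by simp [he']
    simp [hγF e' h2, h1]
  · have h2 : e ∉ ((C.erase e : Finset E) : Set E) := by simp
    simp [hγF e h2]
  · rw [boundary_add ends γ (fun e' => if e' = e then 1 else 0), hγ, boundary_single]
    ring

/-- On an edge set without circuit every edge function is a coboundary. -/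
theorem exists_potential_of_forest [Fintype V] (ends : E → V × V) (F : Finset E)
    (hF : ∀ C ⊆ F, ¬ IsCircuit ends C) (x : E → ℤ) :
    ∃ φ : V → ℤ, ∀ e ∈ F, φ (ends e).2 - φ (ends e).1 = x e := by
  classical
  induction F using Finset.induction_on with
  | empty => exact ⟨fun _ => 0, by simp⟩
  | @insert e F heF ih =>
    obtain ⟨φ, hφ⟩ := ih fun C hC => hF C (hC.trans (Finset.subset_insert _ _))
    have hnr : ¬ Reach ends F (ends e).1 (ends e).2 := by
      have := not_reach_of_forest hF (Finset.mem_insert_self e F)
      rwa [Finset.erase_insert heF] at this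
    refine ⟨fun v => φ v + (if Reach ends F (ends e).1 v then
      (φ (ends e).2 - φ (ends e).1 - x e) else 0), fun e' he' => ?_⟩
    rcases Finset.mem_insert.1 he' with rfl | he'
    · simp only [if_neg hnr, if_pos (Reach.refl ends (F : Set E) (ends e').1)]
      ring
    · have hed : Reach ends F (ends e').1 (ends e').2 := reach_edge (by simpa using he')
      have hiff : Reach ends F (ends e).1 (ends e').1 ↔ Reach ends F (ends e).1 (ends e').2 :=
        ⟨fun h => h.trans hed, fun h => h.trans hed.symm⟩
      by_cases h : Reach ends F (ends e).1 (ends e').1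
      · simp only [if_pos h, if_pos (hiff.1 h), ← hφ e' he']
        ring
      · simp only [if_neg h, if_neg (fun h' => h (hiff.2 h')), ← hφ e' he']
        ring

end Chains

section SpanningTree

variable {V E : Type u} [Fintype V] [DecidableEq V] [DecidableEq E]

/-- A connected spanning edge set contains a minimal one, which has no circuit. -/
theorem exists_minimal_spanning (ends : E → V × V) (F : Finset E) (hF : ∀ v w : V, Reach ends F v w) :
    ∃ T ⊆ F, (∀ v w : V, Reach ends T v w) ∧ ∀ C ⊆ T, ¬ IsCircuit ends C := by
  induction F using Finset.strongInduction with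
  | H F ih =>
    by_cases h : ∃ e ∈ F, Reach ends (F.erase e : Finset E) (ends e).1 (ends e).2
    · obtain ⟨e, he, hre⟩ := h
      obtain ⟨T, hT, h1, h2⟩ := ih (F.erase e) (Finset.erase_ssubset he) (fun v w =>
        (hF v w).of_edges fun e' he' => by
          by_cases hee : e' = e
          · exact hee ▸ hre
          · exact reach_edge (by simpa [hee] using he'))
      exact ⟨T, hT.trans (Finset.erase_subset _ _), h1, h2⟩
    · refine ⟨F, subset_rfl, hF, fun C hCF hC => h ?_⟩
      obtain ⟨e, he⟩ := hC.1
      refine ⟨e, hCF he, (reach_erase_of_circuit hC he).mono fun x hx => ?_⟩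
      simp only [Finset.coe_erase, Set.mem_sdiff, Finset.mem_coe, Set.mem_singleton_iff] at hx ⊢
      exact ⟨hCF hx.1, hx.2⟩

end SpanningTree

end K794.Basic
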