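import Groth.Prelude.Def_W4c4cptpiccptjacBI
import Groth.Agent.LabGraph.K794.Basic

/-!
# Cuts, twists and the Basic Inequality
-/

set_option autoImplicit false
set_option linter.unusedSectionVars false

universe u

namespace K794.BI

open LabGraph K794.Basic

variable {V E : Type u} [Fintype V] [Fintype E] [DecidableEq V] [DecidableEq E]

/-- Indicator of a vertex set, as an integer. -/
def ind (Y : Finset V) (v : V) : ℤ := if v ∈ Y then 1 else 0

theorem ind_sq (Y : Finset V) (v : V) : ind Y v * ind Y v = ind Y v := by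
  unfold ind; split_ifs <;> simp

theorem sum_twist (ends : E → V × V) (φ : V → ℤ) (Y : Finset V) :
    ∑ v ∈ Y, twist ends φ v = ∑ e : E, (ind Y (ends e).1 - ind Y (ends e).2) *
      (φ (ends e).2 - φ (ends e).1) := by
  unfold twist
  rw [Finset.sum_comm]
  refine Finset.sum_congr rfl fun e _ => ?_
  rw [Finset.sum_add_distrib, Finset.sum_ite_eq, Finset.sum_ite_eq]
  unfold ind
  split_ifs <;> ring

theorem sum_twist_univ (ends : E → V × V) (φ : V → ℤ) : ∑ v : V, twist ends φ v = 0 := by
  rw [sum_twist]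
  refine Finset.sum_eq_zero fun e _ => ?_
  simp [ind]

theorem cut_eq_sum (ends : E → V × V) (Y : Finset V) :
    (cut ends Y : ℤ) = ∑ e : E, (ind Y (ends e).1 - ind Y (ends e).2) ^ 2 := by
  unfold cut
  rw [Finset.natCast_card_filter]
  refine Finset.sum_congr rfl fun e _ => ?_
  unfold ind
  by_cases h1 : (ends e).1 ∈ Y <;> by_cases h2 : (ends e).2 ∈ Y <;> simp [h1, h2]

theorem ind_compl (Y : Finset V) (v : V) : ind Yᶜ v = 1 - ind Y v := by
  unfold ind
  by_cases h : v ∈ Y <;> simp [h]

theorem cut_compl (ends : E → V × V) (Y : Finset V) : cut ends Yᶜ = cut ends Y := by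
  have : (cut ends Yᶜ : ℤ) = cut ends Y := by
    rw [cut_eq_sum, cut_eq_sum]
    refine Finset.sum_congr rfl fun e _ => ?_
    rw [ind_compl, ind_compl]
    ring
  exact_mod_cast this

theorem twist_add (ends : E → V × V) (φ ψ : V → ℤ) (v : V) :
    twist ends (fun u => φ u + ψ u) v = twist ends φ v + twist ends ψ v := by
  unfold twist
  rw [← Finset.sum_add_distrib]
  refine Finset.sum_congr rfl fun e _ => ?_
  split_ifs <;> ring

theorem twist_neg (ends : E → V × V) (φ : V → ℤ) (v : V) :
    twist ends (fun u => - φ u) v = - twist ends φ v := by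
  unfold twist
  rw [← Finset.sum_neg_distrib]
  refine Finset.sum_congr rfl fun e _ => ?_
  split_ifs <;> ring

theorem twist_const (ends : E → V × V) (c : ℤ) (v : V) : twist ends (fun _ => c) v = 0 := by
  unfold twist
  simp

theorem twist_congr (ends : E → V × V) {φ ψ : V → ℤ} (h : ∀ v, φ v = ψ v) (v : V) :
    twist ends φ v = twist ends ψ v := by
  have : φ = ψ := funext h
  rw [this]

theorem twist_add_const (ends : E → V × V) (φ : V → ℤ) (c : ℤ) (v : V) :
    twist ends (fun u => φ u + c) v = twist ends φ v := by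
  rw [twist_add ends φ (fun _ => c), twist_const, add_zero]

theorem twist_sum {ι : Type*} (ends : E → V × V) (s : Finset ι) (φ : ι → V → ℤ) (v : V) :
    twist ends (fun u => ∑ i ∈ s, φ i u) v = ∑ i ∈ s, twist ends (φ i) v := by
  classical
  induction s using Finset.induction_on with
  | empty => simp [twist_const]
  | insert a s ha ih =>
    simp_rw [Finset.sum_insert ha]
    rw [twist_add ends (φ a) (fun u => ∑ i ∈ s, φ i u), ih]

theorem canDeg_compl (ends : E → V × V) (w : V → ℕ) (Y : Finset V) :
    canDeg ends w Yᶜ = canDeg ends w Finset.univ - canDeg ends w Y := by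
  unfold canDeg
  rw [eq_sub_iff_add_eq, Finset.sum_compl_add_sum]

theorem sum_compl_eq (d : V → ℤ) (Y : Finset V) :
    ∑ v ∈ Yᶜ, d v = ∑ v, d v - ∑ v ∈ Y, d v := by
  rw [eq_sub_iff_add_eq, Finset.sum_compl_add_sum]

/-- canonical degree of the whole graph: `2g - 2`. -/
theorem canDeg_univ (ends : E → V × V) (w : V → ℕ) :
    canDeg ends w Finset.univ = 2 * genus ends w - 2 := by
  unfold canDeg genus
  rw [Finset.sum_add_distrib, Finset.sum_sub_distrib]
  have h : ∑ v : V, (endCount ends Finset.univ v : ℤ) = 2 * (Fintype.card E : ℤ) := by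
    rw [← Nat.cast_sum, sum_endCount]
    simp only [Finset.mem_univ, if_true, Finset.sum_const, Finset.card_univ, smul_eq_mul]
    push_cast
    ring
  rw [h, ← Finset.mul_sum]
  simp only [Finset.sum_const, Finset.card_univ, nsmul_eq_mul]
  ring

/-- The excess `c(Y) = K d(Y) - D canDeg(Y)`. -/
def exc (ends : E → V × V) (w : V → ℕ) (d : V → ℤ) (Y : Finset V) : ℤ :=
  canDeg ends w Finset.univ * (∑ v ∈ Y, d v) - (∑ v : V, d v) * canDeg ends w Y

theorem exc_compl (ends : E → V × V) (w : V → ℕ) (d : V → ℤ) (Y : Finset V) :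
    exc ends w d Yᶜ = - exc ends w d Y := by
  unfold exc
  rw [sum_compl_eq, canDeg_compl]
  ring

theorem exc_eq_sum (ends : E → V × V) (w : V → ℕ) (d : V → ℤ) (Y : Finset V) :
    exc ends w d Y = ∑ v ∈ Y, exc ends w d {v} := by
  unfold exc canDeg
  simp_rw [Finset.sum_singleton]
  rw [Finset.sum_sub_distrib, Finset.mul_sum, Finset.mul_sum]

theorem exc_union_add_inter (ends : E → V × V) (w : V → ℕ) (d : V → ℤ) (Y Z : Finset V) :
    exc ends w d (Y ∪ Z) + exc ends w d (Y ∩ Z) = exc ends w d Y + exc ends w d Z := by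
  rw [exc_eq_sum ends w d (Y ∪ Z), exc_eq_sum ends w d (Y ∩ Z), exc_eq_sum ends w d Y,
    exc_eq_sum ends w d Z]
  exact Finset.sum_union_inter

/-- The Basic Inequality may be checked one-sidedly. -/
theorem satisfiesBI_iff (ends : E → V × V) (w : V → ℕ) (d : V → ℤ) :
    SatisfiesBI ends w d ↔ ∀ Y : Finset V,
      2 * exc ends w d Y ≤ (cut ends Y : ℤ) * canDeg ends w Finset.univ := by
  constructor
  · intro h Y
    refine le_trans ?_ (h Y)
    have := le_abs_self (exc ends w d Y)
    unfold exc at *
    linarith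
  · intro h Y
    have h1 := h Y
    have h2 := h Yᶜ
    rw [exc_compl, cut_compl] at h2
    have : |exc ends w d Y| * 2 ≤ (cut ends Y : ℤ) * canDeg ends w Finset.univ := by
      rcases abs_cases (exc ends w d Y) with ⟨h3, _⟩ | ⟨h3, _⟩ <;> rw [h3] <;> linarith
    unfold exc at this
    linarith

end K794.BI
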