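import Groth.Agent.LabGraph.K794.BI

/-!
# Exceptional vertices and the Basic Inequality
-/

set_option autoImplicit false
set_option linter.unusedSectionVars false

universe u

namespace K794.BI2

open LabGraph K794.Basic K794.BI

variable {V E : Type u} [Fintype V] [Fintype E] [DecidableEq V] [DecidableEq E]

theorem endCount_univ_of_noloop (ends : E → V × V) (v : V) (h : ∀ e : E, ends e ≠ (v, v)) :
    (endCount ends Finset.univ v : ℤ) = cut ends {v} := by
  rw [cut_eq_sum]
  unfold endCount ind
  push_cast
  refine Finset.sum_congr rfl fun e _ => ?_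
  have := h e
  by_cases h1 : (ends e).1 = v <;> by_cases h2 : (ends e).2 = v
  · exact absurd (Prod.ext h1 h2) this
  · simp [h1, h2]
  · simp [h1, h2]
  · simp [h1, h2]

theorem canDeg_exceptional (ends : E → V × V) (w : V → ℕ) (v : V) (h : IsExceptional ends w v) :
    canDeg ends w {v} = 0 := by
  unfold canDeg
  rw [Finset.sum_singleton, endCount_univ_of_noloop ends v h.2.1, h.2.2, h.1]
  norm_num

theorem canDeg_exceptional' (ends : E → V × V) (w : V → ℕ) (v : V) (h : IsExceptional ends w v) :
    (2 * (w v : ℤ) - 2 + (endCount ends Finset.univ v : ℤ)) = 0 := by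
  have := canDeg_exceptional ends w v h
  unfold canDeg at this
  rwa [Finset.sum_singleton] at this

/-- An exceptional vertex of degree one cannot touch an upper-extreme set not containing it. -/
theorem not_adj_of_upper_extreme (ends : E → V × V) (w : V → ℕ) (hK : 0 < canDeg ends w Finset.univ)
    (d : V → ℤ) (hBI : SatisfiesBI ends w d) {u : V} (hu : IsExceptional ends w u) (hdu : d u = 1)
    {Z : Finset V} (hext : 2 * exc ends w d Z = (cut ends Z : ℤ) * canDeg ends w Finset.univ)
    (huZ : u ∉ Z) (e : E) : ¬ (((ends e).1 = u ∧ (ends e).2 ∈ Z) ∨ ((ends e).2 = u ∧ (ends e).1 ∈ Z)) := by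
  classical
  have h1 := (satisfiesBI_iff ends w d).1 hBI (Z ∪ {u})
  have hdisj : Z ∩ {u} = ∅ := by
    rw [Finset.inter_singleton_of_notMem huZ]
  have h2 := exc_union_add_inter ends w d Z {u}
  rw [hdisj] at h2
  have h3 : exc ends w d ∅ = 0 := by simp [exc, canDeg]
  have h4 : exc ends w d {u} = canDeg ends w Finset.univ := by
    unfold exc
    rw [canDeg_exceptional ends w u hu, Finset.sum_singleton, hdu]
    ring
  rw [h3, h4, add_zero] at h2
  rw [h2] at h1
  have h5 : (cut ends Z : ℤ) + 2 ≤ cut ends (Z ∪ {u}) := by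
    have : ((cut ends Z : ℤ) + 2) * canDeg ends w Finset.univ ≤
        (cut ends (Z ∪ {u}) : ℤ) * canDeg ends w Finset.univ := by linarith
    exact le_of_mul_le_mul_right this hK
  have h6 : (cut ends (Z ∪ {u}) : ℤ) = cut ends Z + cut ends {u} -
      2 * ∑ e : E, (ind Z (ends e).1 * ind {u} (ends e).2 + ind Z (ends e).2 * ind {u} (ends e).1) := by
    rw [cut_eq_sum, cut_eq_sum, cut_eq_sum, Finset.mul_sum, ← Finset.sum_add_distrib,
      ← Finset.sum_sub_distrib]
    refine Finset.sum_congr rfl fun e _ => ?_
    have hx : ∀ x : V, ind (Z ∪ {u}) x = ind Z x + ind {u} x := by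
      intro x
      unfold ind
      by_cases hx : x = u
      · subst hx; simp [huZ]
      · simp [hx]
    have hy : ∀ x : V, ind Z x * ind {u} x = 0 := by
      intro x
      unfold ind
      by_cases hx : x = u
      · subst hx; simp [huZ]
      · simp [hx]
    rw [hx, hx]
    linear_combination 2 * hy (ends e).1 + 2 * hy (ends e).2
  have hcu : (cut ends {u} : ℤ) = 2 := by rw [hu.2.2]; rfl
  have hind : ∀ (Y : Finset V) (x : V), 0 ≤ ind Y x := by
    intro Y x; unfold ind; split_ifs <;> simp
  have h7 : ∑ e : E, (ind Z (ends e).1 * ind {u} (ends e).2 + ind Z (ends e).2 * ind {u} (ends e).1) ≤ 0 := by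
    linarith
  have h8 := (Finset.sum_eq_zero_iff_of_nonneg (s := (Finset.univ : Finset E)) (fun e _ => by
    have h1 := hind Z (ends e).1
    have h2 := hind {u} (ends e).2
    have h3 := hind Z (ends e).2
    have h4 := hind {u} (ends e).1
    positivity)).1 (le_antisymm h7 (Finset.sum_nonneg fun e _ => by
    have h1 := hind Z (ends e).1
    have h2 := hind {u} (ends e).2
    have h3 := hind Z (ends e).2
    have h4 := hind {u} (ends e).1
    positivity)) e (Finset.mem_univ e)
  unfold ind at h8
  rintro (⟨ha, hb⟩ | ⟨ha, hb⟩)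
  · simp only [ha, hb, Finset.mem_singleton, if_true, mul_one, huZ, if_false, zero_mul] at h8
    norm_num at h8
  · simp only [ha, hb, Finset.mem_singleton, if_true, mul_one, huZ, if_false, zero_mul] at h8
    norm_num at h8

/-- If no edge crosses `Y`, the twist of its indicator vanishes. -/
theorem twist_indicator_of_no_cross (ends : E → V × V) (Y : Finset V)
    (h : ∀ e : E, (ends e).1 ∈ Y ↔ (ends e).2 ∈ Y) (v : V) :
    twist ends (fun u => if u ∈ Y then (1 : ℤ) else 0) v = 0 := by
  unfold twist
  refine Finset.sum_eq_zero fun e _ => ?_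
  by_cases h1 : (ends e).1 ∈ Y
  · have h2 := (h e).1 h1
    simp [h1, h2]
  · have h2 : (ends e).2 ∉ Y := fun h2 => h1 ((h e).2 h2)
    simp [h1, h2]

end K794.BI2
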