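import Groth.Agent.LabGraph.K794.Congruence

/-!
# The multidegree operator on the total blow-up graph
-/

set_option autoImplicit false
set_option linter.unusedSectionVars false

universe u

namespace K794.Blowup

open LabGraph K794.Basic

variable {V E : Type u} [Fintype V] [Fintype E] [DecidableEq V] [DecidableEq E]

/-- Value along the path of `e`. -/
def pv (ends : E → V × V) (l : E → ℕ) (ψ : BlVert V E l → ℤ) (e : E) (j : ℕ) : ℤ :=
  ψ (pathVert ends l e j)

theorem pathVert_zero (ends : E → V × V) (l : E → ℕ) (e : E) :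
    pathVert ends l e 0 = Sum.inl (ends e).1 := by
  simp [pathVert]

theorem pathVert_last (ends : E → V × V) (l : E → ℕ) (hl : ∀ e, 0 < l e) (e : E) :
    pathVert ends l e (l e) = Sum.inl (ends e).2 := by
  have := hl e
  simp [pathVert, this.ne']

theorem pathVert_succ (ends : E → V × V) (l : E → ℕ) (e : E) (i : Fin (l e - 1)) :
    pathVert ends l e (i.val + 1) = Sum.inr ⟨e, i⟩ := by
  have := i.2
  have h1 : i.val + 1 < l e := by omega
  simp [pathVert, h1]

theorem pathVert_eq_inl (ends : E → V × V) (l : E → ℕ) (e : E) (j : ℕ) (v : V) :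
    pathVert ends l e j = Sum.inl v ↔ (j = 0 ∧ (ends e).1 = v) ∨ (j ≠ 0 ∧ l e ≤ j ∧ (ends e).2 = v) := by
  unfold pathVert
  by_cases h0 : j = 0
  · simp [h0]
  · by_cases h : j < l e
    · have h' : ¬ (l e ≤ j) := by omega
      simp [h0, h, h']
    · have h' : (l e ≤ j) := by omega
      simp [h0, h, h']

theorem pathVert_eq_inr (ends : E → V × V) (l : E → ℕ) (e : E) (j : ℕ) (e' : E) (i : Fin (l e' - 1)) :
    pathVert ends l e j = Sum.inr ⟨e', i⟩ ↔ e = e' ∧ j = i.val + 1 := by
  have hi := i.2
  unfold pathVert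
  by_cases h0 : j = 0
  · simp [h0]
  · by_cases h : j < l e
    · simp only [h0, h, dif_neg, not_false_eq_true, dif_pos, Sum.inr.injEq, Sigma.mk.injEq]
      constructor
      · rintro ⟨rfl, h2⟩
        have := congrArg Fin.val (eq_of_heq h2)
        simp at this
        exact ⟨rfl, by omega⟩
      · rintro ⟨rfl, h2⟩
        refine ⟨rfl, heq_of_eq (Fin.ext ?_)⟩
        simp
        omega
    · simp only [h0, h, dif_neg, not_false_eq_true, reduceCtorEq, false_iff, not_and]
      rintro rfl h2
      omega

theorem mdeg_bl (ends : E → V × V) (l : E → ℕ) (ψ : BlVert V E l → ℤ) (w : BlVert V E l) :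
    mdeg (blEnds ends l) (fun _ => 1) ψ w =
      ∑ e : E, ∑ k ∈ Finset.range (l e),
        ((if pathVert ends l e k = w then (pv ends l ψ e (k + 1) - pv ends l ψ e k) else 0) +
         (if pathVert ends l e (k + 1) = w then (pv ends l ψ e k - pv ends l ψ e (k + 1)) else 0)) := by
  unfold mdeg blEnds pv
  rw [Fintype.sum_sigma]
  refine Finset.sum_congr rfl fun e _ => ?_
  simp only [Nat.cast_one, Int.ediv_one]
  rw [Finset.sum_range]

theorem mdeg_bl_inr (ends : E → V × V) (l : E → ℕ) (ψ : BlVert V E l → ℤ) (e : E) (i : Fin (l e - 1)) :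
    mdeg (blEnds ends l) (fun _ => 1) ψ (Sum.inr ⟨e, i⟩) =
      pv ends l ψ e (i.val + 2) - 2 * pv ends l ψ e (i.val + 1) + pv ends l ψ e i.val := by
  have hi := i.2
  rw [mdeg_bl, Finset.sum_eq_single e]
  · simp only [pathVert_eq_inr, true_and, Nat.add_right_cancel_iff]
    rw [Finset.sum_add_distrib, Finset.sum_ite_eq', Finset.sum_ite_eq']
    rw [if_pos (Finset.mem_range.2 (by omega)), if_pos (Finset.mem_range.2 (by omega))]
    ring
  · intro e' _ hne
    refine Finset.sum_eq_zero fun k _ => ?_
    simp [pathVert_eq_inr, hne]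
  · simp

theorem mdeg_bl_inl (ends : E → V × V) (l : E → ℕ) (hl : ∀ e, 0 < l e) (ψ : BlVert V E l → ℤ) (v : V) :
    mdeg (blEnds ends l) (fun _ => 1) ψ (Sum.inl v) =
      ∑ e : E, ((if (ends e).1 = v then (pv ends l ψ e 1 - pv ends l ψ e 0) else 0) +
         (if (ends e).2 = v then (pv ends l ψ e (l e - 1) - pv ends l ψ e (l e)) else 0)) := by
  rw [mdeg_bl]
  refine Finset.sum_congr rfl fun e _ => ?_
  have hle := hl e
  rw [Finset.sum_add_distrib]
  congr 1
  · rw [Finset.sum_eq_single 0]
    · simp [pathVert_eq_inl]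
    · intro k hk hk0
      have := Finset.mem_range.1 hk
      rw [if_neg]
      rw [pathVert_eq_inl]
      push Not
      exact ⟨fun h => absurd h hk0, fun _ h => by omega⟩
    · intro h
      exact absurd (Finset.mem_range.2 hle) h
  · rw [Finset.sum_eq_single (l e - 1)]
    · have h1 : l e - 1 + 1 = l e := by omega
      rw [h1, pathVert_last ends l hl]
      simp
    · intro k hk hk0
      have := Finset.mem_range.1 hk
      rw [if_neg]
      rw [pathVert_eq_inl]
      push Not
      exact ⟨fun h => by omega, fun _ h => by omega⟩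
    · intro h
      exact absurd (Finset.mem_range.2 (by omega)) h

theorem pv_zero (ends : E → V × V) (l : E → ℕ) (ψ : BlVert V E l → ℤ) (e : E) :
    pv ends l ψ e 0 = ψ (Sum.inl (ends e).1) := by
  rw [pv, pathVert_zero]

theorem pv_last (ends : E → V × V) (l : E → ℕ) (hl : ∀ e, 0 < l e) (ψ : BlVert V E l → ℤ) (e : E) :
    pv ends l ψ e (l e) = ψ (Sum.inl (ends e).2) := by
  rw [pv, pathVert_last _ _ hl]

/-- An integer sequence with zero second differences up to `n` is arithmetic up to `n`. -/
theorem arith_of_second_diff (g : ℕ → ℤ) (n : ℕ) (h : ∀ i, i + 1 < n → g (i + 2) - 2 * g (i + 1) + g i = 0) :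
    ∀ j, j ≤ n → g j = g 0 + j * (g 1 - g 0) := by
  intro j
  induction j using Nat.strong_induction_on with
  | _ j ih =>
    intro hj
    match j, ih, hj with
    | 0, _, _ => simp
    | 1, _, _ => simp
    | (i + 2), ih, hj =>
      have h1 := ih (i + 1) (by omega) (by omega)
      have h2 := ih i (by omega) (by omega)
      have h3 := h i (by omega)
      push_cast at h1 ⊢
      linear_combination h3 + 2 * h1 - h2

end K794.Blowup
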