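import Groth.Agent.LabGraph.K794.Contract

/-!
# Chains of connecting edges with constant multiplicity and self-intersection `-2`
-/

set_option autoImplicit false
set_option linter.unusedSectionVars false

universe u

namespace K794.Chain

open LabGraph K794.Basic K794.Contract

variable {V E : Type u} [Fintype V] [Fintype E] [DecidableEq V] [DecidableEq E]

/-- The data of a chain, indexed by natural numbers. -/
structure CD (ends : E → V × V) (β : V → ℤ) (m : ℕ) (g : ℕ → V) (d : ℕ → E) : Prop where
  hβ : IsMultFn ends β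
  hm : 0 < m
  hd : ∀ i < m, ends (d i) = (g i, g (i + 1)) ∨ ends (d i) = (g (i + 1), g i)
  ginj : ∀ i ≤ m, ∀ j ≤ m, g i = g j → i = j
  conn : ∀ i < m, IsConnecting ends (d i)
  βm : ∀ i ≤ m, β (g i) = m
  αm : ∀ i ≤ m, mfMatrix ends β (g i) (g i) = -2

variable {ends : E → V × V} {β : V → ℤ} {m : ℕ} {g : ℕ → V} {d : ℕ → E}

/-- The contribution of the edge `e` to `nb ends x v`. -/
def term (ends : E → V × V) (x : V → ℤ) (v : V) (e : E) : ℤ :=
  (if (ends e).1 = v ∧ (ends e).2 ≠ v then x (ends e).2 else 0) +
    (if (ends e).2 = v ∧ (ends e).1 ≠ v then x (ends e).1 else 0)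

theorem nb_eq_sum_term (x : V → ℤ) (v : V) : nb ends x v = ∑ e : E, term ends x v e := rfl

theorem term_of_ends {e : E} {v w : V} (h : ends e = (v, w) ∨ ends e = (w, v)) (hvw : v ≠ w) (x : V → ℤ) :
    term ends x v e = x w := by
  unfold term
  rcases h with h | h <;> rw [h] <;> simp [hvw.symm]

/-- A non zero term comes from an edge joining `v` to another vertex. -/
theorem exists_other_of_term_ne_zero {x : V → ℤ} {v : V} {e : E} (h : term ends x v e ≠ 0) :
    ∃ w, w ≠ v ∧ (ends e = (v, w) ∨ ends e = (w, v)) := by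
  by_contra hcon
  push Not at hcon
  apply h
  unfold term
  rw [if_neg, if_neg, add_zero]
  · rintro ⟨h1, h2⟩
    exact (hcon _ h2).2 (Prod.ext rfl h1)
  · rintro ⟨h1, h2⟩
    exact (hcon _ h2).1 (Prod.ext h1 rfl)

theorem term_nonneg {x : V → ℤ} (hx : ∀ v, 0 ≤ x v) (v : V) (e : E) : 0 ≤ term ends x v e := by
  unfold term
  have h1 := hx (ends e).1
  have h2 := hx (ends e).2
  split_ifs <;> linarith

namespace CD

theorem βpos (h : CD ends β m g d) (v : V) : 0 < β v := (h.hβ v).1

theorem d_ne (h : CD ends β m g d) {i j : ℕ} (hi : i < m) (hj : j < m) (hij : i ≠ j) : d i ≠ d j := by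
  intro hd
  have h1 := h.hd i hi
  have h2 := h.hd j hj
  rw [hd] at h1
  rcases h1 with h1 | h1 <;> rcases h2 with h2 | h2 <;> rw [h1] at h2 <;>
    simp only [Prod.mk.injEq] at h2
  · exact hij (h.ginj _ (by omega) _ (by omega) h2.1)
  · have a := h.ginj _ (by omega) _ (by omega) h2.1
    have b := h.ginj _ (by omega) _ (by omega) h2.2
    omega
  · have a := h.ginj _ (by omega) _ (by omega) h2.1
    have b := h.ginj _ (by omega) _ (by omega) h2.2
    omega
  · exact hij (h.ginj _ (by omega) _ (by omega) h2.2)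

/-- Sides of the connecting edges. -/
theorem exists_side (h : CD ends β m g d) {k : ℕ} (hk : k < m) :
    ∃ S : Set V, (∀ e : E, ((ends e).1 ∈ S ↔ (ends e).2 ∉ S) ↔ e = d k) ∧
      (∀ i ≤ k, g i ∉ S) ∧ (∀ i, k < i → i ≤ m → g i ∈ S) := by
  obtain ⟨S₀, hS₀⟩ := h.conn k hk
  -- orient
  obtain ⟨S, hS, hk0⟩ : ∃ S : Set V, (∀ e : E, ((ends e).1 ∈ S ↔ (ends e).2 ∉ S) ↔ e = d k) ∧ g k ∉ S := by
    by_cases hg : g k ∈ S₀
    · refine ⟨{v | v ∉ S₀}, fun e => ?_, by simpa using hg⟩
      rw [← hS₀ e]
      simp only [Set.mem_ofPred_eq]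
      tauto
    · exact ⟨(S₀ : Set V), fun e => by rw [← hS₀ e]; simp, by simpa using hg⟩
  have hother : ∀ i < m, i ≠ k → (g i ∈ S ↔ g (i + 1) ∈ S) := by
    intro i hi hik
    have h1 := (hS (d i)).not.2 (h.d_ne hi hk hik)
    rcases h.hd i hi with h2 | h2 <;> rw [h2] at h1 <;> tauto
  have hk1 : g (k + 1) ∈ S := by
    have h1 := (hS (d k)).2 rfl
    rcases h.hd k hk with h2 | h2 <;> rw [h2] at h1 <;> tauto
  refine ⟨S, hS, ?_, ?_⟩
  · -- descending induction
    have : ∀ j ≤ k, g (k - j) ∉ S := by
      intro j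
      induction j with
      | zero => intro _; simpa using hk0
      | succ j ih =>
        intro hj
        have h1 := ih (by omega)
        have h2 := hother (k - (j + 1)) (by omega) (by omega)
        have h3 : k - (j + 1) + 1 = k - j := by omega
        rw [h3] at h2
        exact fun h => h1 (h2.1 h)
    intro i hi
    have h1 := this (k - i) (by omega)
    have h2 : k - (k - i) = i := by omega
    rwa [h2] at h1
  · intro i hi him
    induction i with
    | zero => omega
    | succ i ih =>
      by_cases hik : i = k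
      · rw [hik]; exact hk1
      · exact (hother i (by omega) hik).1 (ih (by omega) (by omega))

/-- No chords: an edge joining two vertices of the chain is an edge of the chain. -/
theorem eq_d_of_ends (h : CD ends β m g d) {i j : ℕ} (hij : i < j) (hj : j ≤ m) {e : E}
    (he : ends e = (g i, g j) ∨ ends e = (g j, g i)) : j = i + 1 ∧ e = d i := by
  have hcross : ∀ k, i ≤ k → k < j → e = d k := by
    intro k hk1 hk2
    obtain ⟨S, hS, hS1, hS2⟩ := h.exists_side (show k < m by omega)
    have h1 := hS1 i hk1
    have h2 := hS2 j hk2 hj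
    rw [← hS e]
    rcases he with he | he <;> rw [he] <;> tauto
  have h1 := hcross i le_rfl hij
  refine ⟨?_, h1⟩
  by_contra hne
  have h2 := hcross (i + 1) (by omega) (by omega)
  exact h.d_ne (show i < m by omega) (show i + 1 < m by omega) (by omega) (h1.symm.trans h2)

theorem nb_beta (h : CD ends β m g d) {i : ℕ} (hi : i ≤ m) : nb ends β (g i) = 2 * m := by
  have h1 := mfMatrix_diag_mul h.hβ (g i)
  rw [h.αm i hi, h.βm i hi] at h1
  linarith

/-- At an interior vertex the only edges to other vertices are the two chain edges. -/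
theorem term_interior (h : CD ends β m g d) {i : ℕ} (hi0 : 0 < i) (him : i < m) {e : E}
    (he1 : e ≠ d (i - 1)) (he2 : e ≠ d i) (x : V → ℤ) : term ends x (g i) e = 0 := by
  have hnn : ∀ e, 0 ≤ term ends β (g i) e := fun e => term_nonneg (fun v => (h.βpos v).le) _ _
  have hs := h.nb_beta him.le
  have hi1 : i - 1 + 1 = i := by omega
  rw [nb_eq_sum_term] at hs
  have hne : d (i - 1) ≠ d i := h.d_ne (by omega) him (by omega)
  have t1 : term ends β (g i) (d (i - 1)) = m := by
    have h0 := h.hd (i - 1) (by omega)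
    rw [hi1] at h0
    rw [term_of_ends h0.symm (fun hh => by have := h.ginj _ (by omega) _ (by omega) hh; omega)]
    exact h.βm _ (by omega)
  have t2 : term ends β (g i) (d i) = m := by
    rw [term_of_ends (h.hd i him) (fun hh => by have := h.ginj _ (by omega) _ (by omega) hh; omega)]
    exact h.βm _ (by omega)
  have hzero : term ends β (g i) e = 0 := by
    by_contra hne0
    have hpos : 0 < term ends β (g i) e := lt_of_le_of_ne (hnn e) (Ne.symm hne0)
    have hsub : ∑ e' ∈ ({e, d (i - 1), d i} : Finset E), term ends β (g i) e' ≤ ∑ e' : E, term ends β (g i) e' :=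
      Finset.sum_le_sum_of_subset_of_nonneg (Finset.subset_univ _) fun e _ _ => hnn e
    rw [Finset.sum_insert (by simp [he1, he2]), Finset.sum_pair hne, t1, t2, hs] at hsub
    linarith
  by_contra hcon
  obtain ⟨w, hw, hew⟩ := exists_other_of_term_ne_zero hcon
  rw [term_of_ends hew hw.symm] at hzero
  exact absurd hzero (h.βpos w).ne'

theorem nb_interior (h : CD ends β m g d) {i : ℕ} (hi0 : 0 < i) (him : i < m) (x : V → ℤ) :
    nb ends x (g i) = x (g (i - 1)) + x (g (i + 1)) := by
  have hi1 : i - 1 + 1 = i := by omega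
  have hne : d (i - 1) ≠ d i := h.d_ne (by omega) him (by omega)
  rw [nb_eq_sum_term, ← Finset.sum_subset (Finset.subset_univ ({d (i - 1), d i} : Finset E)),
    Finset.sum_pair hne]
  · have h0 := h.hd (i - 1) (by omega)
    rw [hi1] at h0
    rw [term_of_ends h0.symm (fun hh => by have := h.ginj _ (by omega) _ (by omega) hh; omega),
      term_of_ends (h.hd i him) (fun hh => by have := h.ginj _ (by omega) _ (by omega) hh; omega)]
  · intro e _ he
    simp only [Finset.mem_insert, Finset.mem_singleton, not_or] at he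
    exact h.term_interior hi0 him he.1 he.2 x

/-- Vertices of the chain. -/
def InC (m : ℕ) (g : ℕ → V) (v : V) : Prop := ∃ i ≤ m, g i = v

/-- A vertex outside the chain is not adjacent to an interior vertex. -/
theorem not_adj_interior (h : CD ends β m g d) {i : ℕ} (hi0 : 0 < i) (him : i < m) {e : E} {v : V}
    (hv : ¬ InC m g v) : ¬ (ends e = (g i, v) ∨ ends e = (v, g i)) := by
  intro he
  have hvi : g i ≠ v := fun hh => hv ⟨i, him.le, hh⟩
  have h1 : term ends (fun _ => 1) (g i) e = 1 := term_of_ends he hvi _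
  have hi1 : i - 1 + 1 = i := by omega
  have h2 : e ≠ d (i - 1) := by
    rintro rfl
    have h0 := h.hd (i - 1) (by omega)
    rw [hi1] at h0
    rcases he with he | he <;> rw [he] at h0 <;> simp only [Prod.mk.injEq] at h0
    · rcases h0 with h0 | h0
      · exact hvi h0.2.symm
      · exact hv ⟨i - 1, by omega, h0.2.symm⟩
    · rcases h0 with h0 | h0
      · exact hv ⟨i - 1, by omega, h0.1.symm⟩
      · exact hvi h0.1.symm
  have h3 : e ≠ d i := by
    rintro rfl
    have h0 := h.hd i him
    rcases he with he | he <;> rw [he] at h0 <;> simp only [Prod.mk.injEq] at h0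
    · rcases h0 with h0 | h0
      · exact hv ⟨i + 1, by omega, h0.2.symm⟩
      · exact hvi h0.2.symm
    · rcases h0 with h0 | h0
      · exact hvi h0.1.symm
      · exact hv ⟨i + 1, by omega, h0.1.symm⟩
  rw [h.term_interior hi0 him h2 h3] at h1
  exact zero_ne_one h1

open Classical in
/-- The sum of `x` over the edge-ends at `v` of edges going to vertices outside the chain. -/
noncomputable def rest (ends : E → V × V) (m : ℕ) (g : ℕ → V) (x : V → ℤ) (v : V) : ℤ :=
  ∑ e : E, term ends (fun u => if InC m g u then 0 else x u) v e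

theorem nb_split (x : V → ℤ) (v : V) :
    nb ends x v = nb ends (fun u => open Classical in if InC m g u then x u else 0) v +
      rest ends m g x v := by
  classical
  unfold rest
  rw [← nb_eq_sum_term, ← nb_add]
  congr 1
  funext u
  by_cases hu : InC m g u <;> simp [hu]

theorem nb_zero_eq (h : CD ends β m g d) (x : V → ℤ) :
    nb ends x (g 0) = x (g 1) + rest ends m g x (g 0) := by
  classical
  rw [nb_split (m := m) (g := g) x (g 0)]
  congr 1
  rw [nb_eq_sum_term, Finset.sum_eq_single (d 0)]
  · rw [term_of_ends (h.hd 0 h.hm) (fun hh => by have := h.ginj _ (by omega) _ h.hm hh; omega)]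
    have : InC m g (g (0 + 1)) := ⟨1, h.hm, rfl⟩
    simp [this]
  · intro e _ he
    by_contra hcon
    obtain ⟨w, hw, hew⟩ := exists_other_of_term_ne_zero hcon
    rw [term_of_ends hew hw.symm] at hcon
    by_cases hwC : InC m g w
    · obtain ⟨j, hj, rfl⟩ := hwC
      have hj0 : 0 < j := Nat.pos_of_ne_zero fun hh => hw (by rw [hh])
      exact he (h.eq_d_of_ends hj0 hj hew).2
    · simp [hwC] at hcon
  · simp

theorem nb_last_eq (h : CD ends β m g d) (x : V → ℤ) :
    nb ends x (g m) = x (g (m - 1)) + rest ends m g x (g m) := by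
  classical
  have hm := h.hm
  have hm1 : m - 1 + 1 = m := by omega
  rw [nb_split (m := m) (g := g) x (g m)]
  congr 1
  rw [nb_eq_sum_term, Finset.sum_eq_single (d (m - 1))]
  · have h0 := h.hd (m - 1) (by omega)
    rw [hm1] at h0
    rw [term_of_ends h0.symm (fun hh => by have := h.ginj _ (by omega) _ (by omega) hh; omega)]
    have : InC m g (g (m - 1)) := ⟨m - 1, by omega, rfl⟩
    simp [this]
  · intro e _ he
    by_contra hcon
    obtain ⟨w, hw, hew⟩ := exists_other_of_term_ne_zero hcon
    rw [term_of_ends hew hw.symm] at hcon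
    by_cases hwC : InC m g w
    · obtain ⟨j, hj, rfl⟩ := hwC
      have hj0 : j < m := lt_of_le_of_ne hj fun hh => hw (by rw [hh])
      have := h.eq_d_of_ends hj0 le_rfl hew.symm
      refine he (this.2.trans ?_)
      congr 1
      omega
    · simp [hwC] at hcon
  · simp

theorem rest_congr {x y : V → ℤ} (hxy : ∀ v, ¬ InC m g v → x v = y v) (v : V) :
    rest ends m g x v = rest ends m g y v := by
  classical
  unfold rest
  congr 1
  funext e
  congr 1
  funext u
  by_cases hu : InC m g u
  · simp [hu]
  · simp [hu, hxy u hu]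

theorem rest_beta_zero (h : CD ends β m g d) : rest ends m g β (g 0) = m := by
  have h1 := h.nb_zero_eq β
  rw [h.nb_beta (Nat.zero_le _), h.βm 1 h.hm] at h1
  linarith

theorem rest_beta_last (h : CD ends β m g d) : rest ends m g β (g m) = m := by
  have h1 := h.nb_last_eq β
  rw [h.nb_beta le_rfl, h.βm (m - 1) (by omega)] at h1
  linarith

end CD

end K794.Chain
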