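import Groth.Agent.LabGraph.K794.Chain
import Groth.Agent.LabGraph.K794.Blowup

/-!
# Contracting a chain of connecting edges: comparison of the component groups
-/

set_option autoImplicit false
set_option linter.unusedSectionVars false

universe u

namespace K794.Chain

open LabGraph K794.Basic K794.Contract

variable {V E : Type u} [Fintype V] [Fintype E] [DecidableEq V] [DecidableEq E]
variable {ends : E → V × V} {β : V → ℤ} {m : ℕ} {g : ℕ → V} {d : ℕ → E}

theorem nb_congr {x y : V → ℤ} {v : V}
    (h : ∀ (e : E) (w : V), w ≠ v → (ends e = (v, w) ∨ ends e = (w, v)) → x w = y w) :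
    nb ends x v = nb ends y v := by
  rw [nb_eq_sum_term, nb_eq_sum_term]
  refine Finset.sum_congr rfl fun e _ => ?_
  by_cases hw : ∃ w, w ≠ v ∧ (ends e = (v, w) ∨ ends e = (w, v))
  · obtain ⟨w, hw, hew⟩ := hw
    rw [term_of_ends hew hw.symm, term_of_ends hew hw.symm, h e w hw hew]
  · have h1 : term ends x v e = 0 := by
      by_contra hc
      exact hw (exists_other_of_term_ne_zero hc)
    have h2 : term ends y v e = 0 := by
      by_contra hc
      exact hw (exists_other_of_term_ne_zero hc)
    rw [h1, h2]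

namespace CD

theorem rest_congr' {x y : V → ℤ} {v : V}
    (h : ∀ (e : E) (w : V), ¬ InC m g w → w ≠ v → (ends e = (v, w) ∨ ends e = (w, v)) → x w = y w) :
    rest ends m g x v = rest ends m g y v := by
  classical
  unfold rest
  rw [← nb_eq_sum_term, ← nb_eq_sum_term]
  refine nb_congr fun e w hw hew => ?_
  by_cases hwC : InC m g w
  · simp [hwC]
  · simp [hwC, h e w hwC hw hew]

theorem rest_interior (h : CD ends β m g d) {i : ℕ} (hi0 : 0 < i) (him : i < m) (x : V → ℤ) :
    rest ends m g x (g i) = 0 := by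
  classical
  unfold rest
  refine Finset.sum_eq_zero fun e _ => ?_
  by_contra hcon
  obtain ⟨w, hw, hew⟩ := exists_other_of_term_ne_zero hcon
  rw [term_of_ends hew hw.symm] at hcon
  by_cases hwC : InC m g w
  · simp [hwC] at hcon
  · exact h.not_adj_interior hi0 him hwC hew

/-- the index of a chain vertex -/
noncomputable def idx (m : ℕ) (g : ℕ → V) (v : V) (hv : InC m g v) : ℕ := Classical.choose hv

theorem idx_g (h : CD ends β m g d) {j : ℕ} (hj : j ≤ m) (hv : InC m g (g j)) : idx m g (g j) hv = j := by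
  have := Classical.choose_spec hv
  exact h.ginj _ this.1 _ hj this.2

open Classical in
/-- extension of a function of the index by a function outside the chain -/
noncomputable def ext (m : ℕ) (g : ℕ → V) (T : ℕ → ℤ) (r : V → ℤ) (v : V) : ℤ :=
  if hv : InC m g v then T (idx m g v hv) else r v

theorem ext_g (h : CD ends β m g d) (T : ℕ → ℤ) (r : V → ℤ) {j : ℕ} (hj : j ≤ m) :
    ext m g T r (g j) = T j := by
  have hv : InC m g (g j) := ⟨j, hj, rfl⟩
  unfold ext
  rw [dif_pos hv, h.idx_g hj]

theorem ext_out (T : ℕ → ℤ) (r : V → ℤ) {v : V} (hv : ¬ InC m g v) :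
    ext m g T r v = r v := by
  unfold ext
  rw [dif_neg hv]

/-- The vector `ρ` with `α ρ = δ_{v₀} - δ_{v_m}`. -/
theorem exists_rho (h : CD ends β m g d) :
    ∃ ρ : V → ℤ, (∀ j ≤ m, ρ (g j) = j) ∧
      (mfMatrix ends β).mulVec ρ (g 0) = 1 ∧ (mfMatrix ends β).mulVec ρ (g m) = -1 ∧
      (∀ i, 0 < i → i < m → (mfMatrix ends β).mulVec ρ (g i) = 0) ∧
      (∀ v, ¬ InC m g v → (mfMatrix ends β).mulVec ρ v = 0) := by
  classical
  have hm := h.hm
  obtain ⟨S, hS, hS0, hS1⟩ := h.exists_side hm
  have hg0 := hS0 0 le_rfl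
  -- edges with an end outside the chain do not cross `S`
  have hnc : ∀ (e : E) (v w : V), ¬ InC m g v → (ends e = (v, w) ∨ ends e = (w, v)) → (v ∈ S ↔ w ∈ S) := by
    intro e v w hv he
    have hne : e ≠ d 0 := by
      rintro rfl
      have h0 := h.hd 0 hm
      rcases he with he | he <;> rw [he] at h0 <;> simp only [Prod.mk.injEq] at h0
      · rcases h0 with h0 | h0
        · exact hv ⟨0, by omega, h0.1.symm⟩
        · exact hv ⟨0 + 1, by omega, h0.1.symm⟩
      · rcases h0 with h0 | h0
        · exact hv ⟨0 + 1, by omega, h0.2.symm⟩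
        · exact hv ⟨0, by omega, h0.2.symm⟩
    have h1 := (hS e).not.2 hne
    rcases he with he | he <;> rw [he] at h1 <;> simp only at h1 <;> tauto
  set ρ : V → ℤ := ext m g (fun j => (j : ℤ)) (fun v => if v ∈ S then β v else 0) with hρ
  have hρg : ∀ j ≤ m, ρ (g j) = j := fun j hj => h.ext_g _ _ hj
  have hρS : ∀ v, ¬ InC m g v → v ∈ S → ρ v = β v := fun v hv hvS => by
    rw [hρ, ext_out _ _ hv, if_pos hvS]
  have hρS' : ∀ v, ¬ InC m g v → v ∉ S → ρ v = 0 := fun v hv hvS => by
    rw [hρ, ext_out _ _ hv, if_neg hvS]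
  refine ⟨ρ, hρg, ?_, ?_, ?_, ?_⟩
  · rw [mulVec_eq, h.αm 0 (by omega), h.nb_zero_eq, hρg 1 hm, hρg 0 (by omega)]
    have : rest ends m g ρ (g 0) = 0 := by
      rw [rest_congr' (y := fun _ => 0) fun e w hw _ he => ?_]
      · unfold rest term
        simp
      · have h1 := hnc e w (g 0) hw (by tauto)
        exact hρS' w hw fun hw' => hg0 (h1.1 hw')
    rw [this]
    norm_num
  · rw [mulVec_eq, h.αm m le_rfl, h.nb_last_eq, hρg (m - 1) (by omega), hρg m le_rfl]
    have : rest ends m g ρ (g m) = m := by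
      rw [rest_congr' (y := β) fun e w hw _ he => ?_]
      · exact h.rest_beta_last
      · have h1 := hnc e w (g m) hw (by tauto)
        exact hρS w hw (h1.2 (hS1 m hm le_rfl))
    rw [this]
    have : ((m - 1 : ℕ) : ℤ) = m - 1 := by
      rw [Nat.cast_sub (by omega)]; simp
    rw [this]
    ring
  · intro i hi0 him
    rw [mulVec_eq, h.αm i him.le, h.nb_interior hi0 him, hρg (i - 1) (by omega), hρg (i + 1) (by omega),
      hρg i him.le]
    have : ((i - 1 : ℕ) : ℤ) = i - 1 := by
      rw [Nat.cast_sub (by omega)]; simp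
    rw [this]
    push_cast
    ring
  · intro v hv
    have hadj : ∀ (e : E) (w : V), w ≠ v → (ends e = (v, w) ∨ ends e = (w, v)) →
        (v ∈ S → ρ w = β w) ∧ (v ∉ S → ρ w = 0) := by
      intro e w hw he
      have h1 := hnc e v w hv he
      by_cases hwC : InC m g w
      · obtain ⟨j, hj, rfl⟩ := hwC
        rcases Nat.eq_zero_or_pos j with rfl | hj0
        · exact ⟨fun h2 => absurd (h1.1 h2) hg0, fun _ => by rw [hρg 0 hj]; simp⟩
        · rcases Nat.lt_or_ge j m with hjm | hjm
          · exact absurd he.symm (h.not_adj_interior hj0 hjm hv)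
          · have : j = m := by omega
            subst this
            exact ⟨fun _ => by rw [hρg j le_rfl, h.βm j le_rfl],
              fun h2 => absurd (h1.2 (hS1 j hm le_rfl)) h2⟩
      · exact ⟨fun h2 => hρS w hwC (h1.1 h2), fun h2 => hρS' w hwC fun h3 => h2 (h1.2 h3)⟩
    rw [mulVec_eq]
    by_cases hvS : v ∈ S
    · rw [nb_congr (y := β) fun e w hw he => (hadj e w hw he).1 hvS, hρS v hv hvS, mfMatrix_diag_mul h.hβ]
      ring
    · rw [nb_congr (y := fun _ => 0) fun e w hw he => (hadj e w hw he).2 hvS, hρS' v hv hvS]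
      unfold nb
      simp

end CD

end K794.Chain
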