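import Groth.Agent.LabGraph.K794.Chain2

/-!
# Contracting a chain of connecting edges: comparison of the component groups (continued)
-/

set_option autoImplicit false
set_option linter.unusedSectionVars false

universe u

namespace K794.Chain

open LabGraph K794.Basic K794.Contract

variable {V E : Type u} [Fintype V] [Fintype E] [DecidableEq V] [DecidableEq E]
variable {ends : E → V × V} {β : V → ℤ} {m : ℕ} {g : ℕ → V} {d : ℕ → E} {D : Finset E}

namespace CD

section Mk

variable (h : CD ends β m g d) (hD : ∀ e, e ∈ D ↔ ∃ i < m, d i = e)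

include h hD

theorem const_D : ∀ e ∈ D, β (ends e).1 = β (ends e).2 := by
  intro e he
  obtain ⟨i, hi, rfl⟩ := (hD e).1 he
  rcases h.hd i hi with h1 | h1 <;> rw [h1]
  · exact (h.βm _ (by omega)).trans (h.βm _ (by omega)).symm
  · exact (h.βm _ (by omega)).trans (h.βm _ (by omega)).symm

theorem reach_g {i : ℕ} (hi : i ≤ m) : Reach ends D (g 0) (g i) := by
  induction i with
  | zero => exact Reach.refl _ _ _
  | succ i ih =>
    refine (ih (by omega)).trans ?_
    have hmem : d i ∈ (D : Set E) := by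
      have := (hD (d i)).2 ⟨i, by omega, rfl⟩
      simpa using this
    rcases h.hd i (by omega) with h1 | h1
    · exact reach_edge' hmem h1
    · exact (reach_edge' hmem h1).symm

theorem mk_eq_iff (v w : V) :
    DualGr.ctrMk ends D v = DualGr.ctrMk ends D w ↔ v = w ∨ (InC m g v ∧ InC m g w) := by
  rw [ctrMk_eq_iff]
  constructor
  · intro hr
    by_cases hv : InC m g v
    · right
      refine ⟨hv, ?_⟩
      exact hr.mem_of_closed (S := {v | InC m g v}) (fun e he => by
        obtain ⟨i, hi, rfl⟩ := (hD e).1 (by simpa using he)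
        rcases h.hd i hi with h1 | h1 <;> rw [h1]
        · exact ⟨fun _ => ⟨i + 1, by omega, rfl⟩, fun _ => ⟨i, by omega, rfl⟩⟩
        · exact ⟨fun _ => ⟨i, by omega, rfl⟩, fun _ => ⟨i + 1, by omega, rfl⟩⟩) hv
    · left
      have := hr.eq_of_const (f := fun u => u = v) (fun e he => by
        obtain ⟨i, hi, rfl⟩ := (hD e).1 (by simpa using he)
        have h3 : g i ≠ v := fun hh => hv ⟨i, by omega, hh⟩
        have h4 : g (i + 1) ≠ v := fun hh => hv ⟨i + 1, by omega, hh⟩
        rcases h.hd i hi with h1 | h1 <;> rw [h1] <;> simp [h3, h4])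
      have h5 : (w = v) := by
        have h6 : (v = v) = (w = v) := this
        rw [← h6]
      exact h5.symm
  · rintro (rfl | ⟨⟨i, hi, rfl⟩, ⟨j, hj, rfl⟩⟩)
    · exact Reach.refl _ _ _
    · exact (h.reach_g hD hi).symm.trans (h.reach_g hD hj)

theorem mk_eq_iff_of_not {v w : V} (hv : ¬ InC m g v) :
    DualGr.ctrMk ends D w = DualGr.ctrMk ends D v ↔ w = v := by
  rw [h.mk_eq_iff hD]
  tauto

theorem mk_eq_zero_iff (v : V) : DualGr.ctrMk ends D v = DualGr.ctrMk ends D (g 0) ↔ InC m g v := by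
  rw [h.mk_eq_iff hD]
  have h0 : InC m g (g 0) := ⟨0, by omega, rfl⟩
  constructor
  · rintro (rfl | ⟨h1, _⟩)
    · exact h0
    · exact h1
  · intro h1
    exact Or.inr ⟨h1, h0⟩

theorem liftAt_out (x : DualGr.CtrVert ends D → ℤ) {v : V} (hv : ¬ InC m g v) :
    liftAt ends D (g 0) x v = x (DualGr.ctrMk ends D v) := by
  unfold liftAt
  rw [if_neg]
  rintro ⟨h1, _⟩
  exact hv ((h.mk_eq_zero_iff hD v).1 h1)

theorem liftAt_zero (x : DualGr.CtrVert ends D → ℤ) :
    liftAt ends D (g 0) x (g 0) = x (DualGr.ctrMk ends D (g 0)) := by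
  unfold liftAt
  rw [if_neg]
  rintro ⟨_, h1⟩
  exact h1 rfl

theorem liftAt_pos (x : DualGr.CtrVert ends D → ℤ) {i : ℕ} (hi0 : 0 < i) (hi : i ≤ m) :
    liftAt ends D (g 0) x (g i) = 0 := by
  unfold liftAt
  rw [if_pos]
  refine ⟨(h.mk_eq_zero_iff hD _).2 ⟨i, hi, rfl⟩, fun hh => ?_⟩
  have := h.ginj i hi 0 (by omega) hh
  omega

theorem liftAt_injective {x y : DualGr.CtrVert ends D → ℤ}
    (hxy : liftAt ends D (g 0) x = liftAt ends D (g 0) y) : x = y := by
  funext c
  obtain ⟨v, rfl⟩ := DualGr.ctrMk_surjective ends D c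
  by_cases hv : InC m g v
  · rw [(h.mk_eq_zero_iff hD v).2 hv, ← h.liftAt_zero hD x, ← h.liftAt_zero hD y, hxy]
  · rw [← h.liftAt_out hD x hv, ← h.liftAt_out hD y hv, hxy]

/-- A vector vanishing on `g 1, …, g m` is a lift. -/
theorem exists_liftAt {r : V → ℤ} (hr : ∀ i, 0 < i → i ≤ m → r (g i) = 0) :
    ∃ x : DualGr.CtrVert ends D → ℤ, liftAt ends D (g 0) x = r := by
  classical
  refine ⟨fun c => if c = DualGr.ctrMk ends D (g 0) then r (g 0) else
    r (Quotient.out (s := DualGr.ctrSetoid ends D) c), ?_⟩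
  funext v
  by_cases hv : InC m g v
  · obtain ⟨i, hi, rfl⟩ := hv
    rcases Nat.eq_zero_or_pos i with rfl | hi0
    · rw [h.liftAt_zero hD]
      simp
    · rw [h.liftAt_pos hD _ hi0 hi, hr i hi0 hi]
  · rw [h.liftAt_out hD _ hv, if_neg fun hh => hv ((h.mk_eq_zero_iff hD v).1 hh)]
    congr 1
    exact (h.mk_eq_iff_of_not hD hv).1 (Quotient.out_eq (s := DualGr.ctrSetoid ends D) _)

/-- A function constant on the chain comes from the contraction. -/
theorem exists_desc {r : V → ℤ} (hr : ∀ i ≤ m, r (g i) = r (g 0)) :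
    ∃ x : DualGr.CtrVert ends D → ℤ, ∀ v, x (DualGr.ctrMk ends D v) = r v := by
  refine ⟨fun c => r (Quotient.out (s := DualGr.ctrSetoid ends D) c), fun v => ?_⟩
  have h1 : DualGr.ctrMk ends D (Quotient.out (s := DualGr.ctrSetoid ends D) (DualGr.ctrMk ends D v)) =
      DualGr.ctrMk ends D v := Quotient.out_eq (s := DualGr.ctrSetoid ends D) _
  rcases (h.mk_eq_iff hD _ _).1 h1 with h2 | ⟨⟨i, hi, h2⟩, ⟨j, hj, h3⟩⟩
  · dsimp only
    rw [h2]
  · dsimp only
    rw [← h2, ← h3, hr i hi, hr j hj]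

theorem liftAt_sum (x : DualGr.CtrVert ends D → ℤ) :
    ∑ v, liftAt ends D (g 0) x v * β v = ∑ c, x c * ctrFn ends D β c := by
  rw [← Finset.sum_fiberwise (Finset.univ : Finset V) (DualGr.ctrMk ends D)]
  refine Finset.sum_congr rfl fun c _ => ?_
  obtain ⟨v, rfl⟩ := DualGr.ctrMk_surjective ends D c
  rw [ctrFn_mk ends D β (h.const_D hD)]
  by_cases hv : InC m g v
  · rw [Finset.sum_eq_single (g 0)]
    · rw [h.liftAt_zero hD, (h.mk_eq_zero_iff hD v).2 hv]
      obtain ⟨i, hi, rfl⟩ := hv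
      rw [h.βm i hi, h.βm 0 (by omega)]
    · intro w hw hw0
      have hw1 := (Finset.mem_filter.1 hw).2
      have hwC : InC m g w := by
        rcases (h.mk_eq_iff hD w v).1 hw1 with h1 | h1
        · exact h1 ▸ hv
        · exact h1.1
      obtain ⟨i, hi, rfl⟩ := hwC
      rcases Nat.eq_zero_or_pos i with rfl | hi0
      · exact absurd rfl hw0
      · rw [h.liftAt_pos hD _ hi0 hi, zero_mul]
    · intro hh
      refine absurd ?_ hh
      rw [Finset.mem_filter]
      exact ⟨Finset.mem_univ _, ((h.mk_eq_zero_iff hD v).2 hv).symm⟩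
  · rw [Finset.sum_eq_single v]
    · rw [h.liftAt_out hD _ hv]
    · intro w hw hwv
      exact absurd ((h.mk_eq_iff_of_not hD hv).1 (Finset.mem_filter.1 hw).2) hwv
    · intro hh
      refine absurd ?_ hh
      rw [Finset.mem_filter]
      exact ⟨Finset.mem_univ _, rfl⟩

theorem betaHom_liftAt (x : DualGr.CtrVert ends D → ℤ) :
    betaHom β (liftAt ends D (g 0) x) = betaHom (ctrFn ends D β) x := by
  rw [betaHom_apply, betaHom_apply, h.liftAt_sum hD]

theorem isMultFn_ctr' : IsMultFn (DualGr.ctrEnds ends D) (ctrFn ends D β) :=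
  isMultFn_ctr ends β h.hβ D (h.const_D hD)

/-- Neighbour sums in the contraction at a vertex outside the chain. -/
theorem nb_ctr_out (x : DualGr.CtrVert ends D → ℤ) {v : V} (hv : ¬ InC m g v) :
    nb (DualGr.ctrEnds ends D) x (DualGr.ctrMk ends D v) = nb ends (fun u => x (DualGr.ctrMk ends D u)) v := by
  rw [nb_ctr]
  unfold nb
  refine Finset.sum_congr rfl fun e _ => ?_
  simp only [h.mk_eq_iff_of_not hD hv, ne_eq]

/-- Neighbour sums in the contraction at the contracted vertex. -/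
theorem nb_ctr_zero (x : DualGr.CtrVert ends D → ℤ) :
    nb (DualGr.ctrEnds ends D) x (DualGr.ctrMk ends D (g 0)) =
      rest ends m g (fun u => x (DualGr.ctrMk ends D u)) (g 0) +
      rest ends m g (fun u => x (DualGr.ctrMk ends D u)) (g m) := by
  classical
  have hm := h.hm
  set X : V → ℤ := fun u => x (DualGr.ctrMk ends D u) with hX
  have h1 : nb (DualGr.ctrEnds ends D) x (DualGr.ctrMk ends D (g 0)) =
      ∑ i ∈ Finset.range (m + 1), rest ends m g X (g i) := by
    rw [nb_ctr]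
    unfold rest
    rw [Finset.sum_comm]
    refine Finset.sum_congr rfl fun e _ => ?_
    simp only [h.mk_eq_zero_iff hD]
    unfold term
    rw [Finset.sum_add_distrib]
    have hh : ∀ a b : V, ∑ i ∈ Finset.range (m + 1), (if a = g i ∧ b ≠ g i then
        (if InC m g b then 0 else X b) else 0) = if InC m g a ∧ ¬ InC m g b then X b else 0 := by
      intro a b
      by_cases hb : InC m g b
      · simp [hb]
      · by_cases ha : InC m g a
        · obtain ⟨j, hj, rfl⟩ := ha
          rw [Finset.sum_eq_single j]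
          · have hbj : b ≠ g j := fun hh => hb ⟨j, hj, hh.symm⟩
            have hja : InC m g (g j) := ⟨j, hj, rfl⟩
            simp [hb, hbj, hja]
          · intro i hi hij
            rw [if_neg]
            rintro ⟨h1, _⟩
            exact hij (h.ginj i (by have := Finset.mem_range.1 hi; omega) j hj h1.symm)
          · intro hh
            exact absurd (Finset.mem_range.2 (by omega)) hh
        · rw [if_neg (show ¬ (InC m g a ∧ ¬ InC m g b) from fun hc => ha hc.1)]
          refine Finset.sum_eq_zero fun i hi => ?_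
          rw [if_neg]
          rintro ⟨h1, _⟩
          exact ha ⟨i, by have := Finset.mem_range.1 hi; omega, h1.symm⟩
    rw [hh, hh]
    simp only [ne_eq, h.mk_eq_zero_iff hD, hX]
  have h2 : ∑ i ∈ ({0, m} : Finset ℕ), rest ends m g X (g i) =
      ∑ i ∈ Finset.range (m + 1), rest ends m g X (g i) := by
    refine Finset.sum_subset ?_ ?_
    · intro i hi
      simp only [Finset.mem_insert, Finset.mem_singleton] at hi
      rw [Finset.mem_range]
      omega
    · intro i hi hi'
      simp only [Finset.mem_insert, Finset.mem_singleton, not_or] at hi'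
      have := Finset.mem_range.1 hi
      exact h.rest_interior (by omega) (by omega) X
  rw [h1, ← h2, Finset.sum_pair (by omega)]

theorem mfMatrix_ctr_zero :
    mfMatrix (DualGr.ctrEnds ends D) (ctrFn ends D β) (DualGr.ctrMk ends D (g 0)) (DualGr.ctrMk ends D (g 0)) =
      -2 := by
  have h1 := mfMatrix_diag_mul (h.isMultFn_ctr' hD) (DualGr.ctrMk ends D (g 0))
  rw [h.nb_ctr_zero hD, ctrFn_mk ends D β (h.const_D hD), h.βm 0 (by omega)] at h1
  simp only [ctrFn_mk ends D β (h.const_D hD)] at h1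
  rw [h.rest_beta_zero, h.rest_beta_last] at h1
  have hm : (0 : ℤ) < m := by exact_mod_cast h.hm
  have : mfMatrix (DualGr.ctrEnds ends D) (ctrFn ends D β) (DualGr.ctrMk ends D (g 0))
      (DualGr.ctrMk ends D (g 0)) * (m : ℤ) = (-2) * m := by linarith
  exact mul_right_cancel₀ hm.ne' this

theorem mfMatrix_ctr_out {v : V} (hv : ¬ InC m g v) :
    mfMatrix (DualGr.ctrEnds ends D) (ctrFn ends D β) (DualGr.ctrMk ends D v) (DualGr.ctrMk ends D v) =
      mfMatrix ends β v v := by
  rw [mfMatrix_diag, mfMatrix_diag, h.nb_ctr_out hD _ hv]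
  simp only [ctrFn_mk ends D β (h.const_D hD)]

/-- The matrix of the contraction and the matrix of the graph. -/
theorem mulVec_comp_mk (x : DualGr.CtrVert ends D → ℤ) :
    (∀ v, ¬ InC m g v → (mfMatrix ends β).mulVec (fun u => x (DualGr.ctrMk ends D u)) v =
      (mfMatrix (DualGr.ctrEnds ends D) (ctrFn ends D β)).mulVec x (DualGr.ctrMk ends D v)) ∧
    (∀ i, 0 < i → i < m → (mfMatrix ends β).mulVec (fun u => x (DualGr.ctrMk ends D u)) (g i) = 0) ∧
    (mfMatrix ends β).mulVec (fun u => x (DualGr.ctrMk ends D u)) (g 0) +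
      (mfMatrix ends β).mulVec (fun u => x (DualGr.ctrMk ends D u)) (g m) =
      (mfMatrix (DualGr.ctrEnds ends D) (ctrFn ends D β)).mulVec x (DualGr.ctrMk ends D (g 0)) := by
  have hc : ∀ i ≤ m, DualGr.ctrMk ends D (g i) = DualGr.ctrMk ends D (g 0) := fun i hi =>
    (h.mk_eq_zero_iff hD _).2 ⟨i, hi, rfl⟩
  have hm := h.hm
  refine ⟨fun v hv => ?_, fun i hi0 him => ?_, ?_⟩
  · rw [mulVec_eq, mulVec_eq, h.nb_ctr_out hD _ hv, h.mfMatrix_ctr_out hD hv]
  · rw [mulVec_eq, h.nb_interior hi0 him, h.αm i him.le, hc i him.le, hc (i - 1) (by omega),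
      hc (i + 1) (by omega)]
    ring
  · rw [mulVec_eq, mulVec_eq, mulVec_eq, h.nb_ctr_zero hD, h.mfMatrix_ctr_zero hD, h.nb_zero_eq, h.nb_last_eq,
      h.αm 0 (by omega), h.αm m le_rfl, hc m le_rfl, hc 1 hm, hc (m - 1) (by omega)]
    ring

/-- The map `h` with `f ∘ α' = α ∘ h`. -/
theorem lift_mulVec {ρ : V → ℤ} (hρ0 : (mfMatrix ends β).mulVec ρ (g 0) = 1)
    (hρm : (mfMatrix ends β).mulVec ρ (g m) = -1)
    (hρi : ∀ i, 0 < i → i < m → (mfMatrix ends β).mulVec ρ (g i) = 0)
    (hρo : ∀ v, ¬ InC m g v → (mfMatrix ends β).mulVec ρ v = 0) (x : DualGr.CtrVert ends D → ℤ) :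
    liftAt ends D (g 0) ((mfMatrix (DualGr.ctrEnds ends D) (ctrFn ends D β)).mulVec x) =
      (mfMatrix ends β).mulVec (fun u => x (DualGr.ctrMk ends D u)) +
        ((mfMatrix ends β).mulVec (fun u => x (DualGr.ctrMk ends D u)) (g m)) • (mfMatrix ends β).mulVec ρ := by
  obtain ⟨h1, h2, h3⟩ := h.mulVec_comp_mk hD x
  funext v
  rw [Pi.add_apply, Pi.smul_apply, smul_eq_mul]
  by_cases hv : InC m g v
  · obtain ⟨i, hi, rfl⟩ := hv
    rcases Nat.eq_zero_or_pos i with rfl | hi0
    · rw [h.liftAt_zero hD, hρ0, ← h3]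
      ring
    · rw [h.liftAt_pos hD _ hi0 hi]
      rcases Nat.lt_or_ge i m with him | him
      · rw [h2 i hi0 him, hρi i hi0 him]
        ring
      · have : i = m := by omega
        subst this
        rw [hρm]
        ring
  · rw [h.liftAt_out hD _ hv, h1 v hv, hρo v hv]
    ring

/-- Injectivity. -/
theorem mem_range_of_lift (x : DualGr.CtrVert ends D → ℤ)
    (hfx : ∃ z, (mfMatrix ends β).mulVec z = liftAt ends D (g 0) x) :
    ∃ z', (mfMatrix (DualGr.ctrEnds ends D) (ctrFn ends D β)).mulVec z' = x := by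
  obtain ⟨z, hz⟩ := hfx
  obtain ⟨ρ, hρg, hρ0, hρm, hρi, hρo⟩ := h.exists_rho
  have hm := h.hm
  set t := z (g 1) - z (g 0) with ht
  have hlin : ∀ j ≤ m, z (g j) = z (g 0) + j * t := by
    refine K794.Blowup.arith_of_second_diff (fun j => z (g j)) m fun i hi => ?_
    have h1 := congrFun hz (g (i + 1))
    rw [mulVec_eq, h.nb_interior (by omega) hi, h.αm _ hi.le, h.liftAt_pos hD _ (by omega) hi.le] at h1
    simp only [Nat.add_sub_cancel] at h1
    linarith
  obtain ⟨z', hz'⟩ := h.exists_desc hD (r := fun v => z v - t * ρ v) (fun i hi => by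
    rw [hlin i hi, hρg i hi, hρg 0 (by omega)]
    push_cast
    ring)
  refine ⟨z', h.liftAt_injective hD ?_⟩
  rw [h.lift_mulVec hD hρ0 hρm hρi hρo]
  have h1 : (fun u => z' (DualGr.ctrMk ends D u)) = z - t • ρ := by
    funext v
    rw [hz' v]
    rfl
  have h2 : (mfMatrix ends β).mulVec (fun u => z' (DualGr.ctrMk ends D u)) =
      liftAt ends D (g 0) x - t • (mfMatrix ends β).mulVec ρ := by
    rw [h1, Matrix.mulVec_sub, Matrix.mulVec_smul, hz]
  rw [h2]
  have h3 : (liftAt ends D (g 0) x - t • (mfMatrix ends β).mulVec ρ) (g m) = t := by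
    rw [Pi.sub_apply, Pi.smul_apply, h.liftAt_pos hD _ hm le_rfl, hρm, smul_eq_mul]
    ring
  rw [h3]
  abel

/-- Surjectivity. -/
theorem exists_lift_mod (y : V → ℤ) :
    ∃ (x : DualGr.CtrVert ends D → ℤ) (w : V → ℤ),
      liftAt ends D (g 0) x = y - (mfMatrix ends β).mulVec w := by
  obtain ⟨ρ, hρg, hρ0, hρm, hρi, hρo⟩ := h.exists_rho
  have hm := h.hm
  -- solve the recursion along the chain
  obtain ⟨T, hT⟩ : ∃ T : ℕ → ℤ, ∀ i, 0 < i → T (i - 1) + T (i + 1) - 2 * T i = y (g i) := by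
    let Q : ℕ → ℤ × ℤ := fun j => Nat.rec (0, 0) (fun i (q : ℤ × ℤ) =>
      (q.2, 2 * q.2 - q.1 + y (g (i + 1)))) j
    have hQs : ∀ i, Q (i + 1) = ((Q i).2, 2 * (Q i).2 - (Q i).1 + y (g (i + 1))) := fun i => rfl
    refine ⟨fun j => (Q j).1, fun i hi => ?_⟩
    obtain ⟨j, rfl⟩ : ∃ j, i = j + 1 := ⟨i - 1, by omega⟩
    simp only [Nat.add_sub_cancel]
    rw [hQs (j + 1), hQs j]
    ring
  set z : V → ℤ := ext m g T (fun _ => 0) with hz
  have hzg : ∀ j ≤ m, z (g j) = T j := fun j hj => h.ext_g _ _ hj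
  set s : ℤ := (mfMatrix ends β).mulVec z (g m) - y (g m) with hs
  obtain ⟨x, hx⟩ := h.exists_liftAt hD (r := y - (mfMatrix ends β).mulVec (z + s • ρ)) (fun i hi0 hi => by
    rw [Matrix.mulVec_add, Matrix.mulVec_smul]
    simp only [Pi.sub_apply, Pi.add_apply, Pi.smul_apply, smul_eq_mul]
    rcases Nat.lt_or_ge i m with him | him
    · rw [hρi i hi0 him, mulVec_eq, h.nb_interior hi0 him, h.αm i hi, hzg _ (by omega), hzg _ (by omega),
        hzg _ hi]
      have := hT i hi0
      linarith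
    · have : i = m := by omega
      subst this
      rw [hρm, hs]
      ring)
  exact ⟨x, _, hx⟩

end Mk

end CD

end K794.Chain
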