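import Groth.Agent.LabGraph.K794.Chain3

/-!
# From the chain data of the statements to natural-number indexed chains
-/

set_option autoImplicit false
set_option linter.unusedSectionVars false

universe u

namespace K794.Chain

open LabGraph K794.Basic K794.Contract

variable {V E : Type u} [Fintype V] [Fintype E] [DecidableEq V] [DecidableEq E]

theorem exists_CD {ends : E → V × V} {β : V → ℤ} (hβ : IsMultFn ends β)
    (m : ℕ) (f : Fin (m + 1) → V) (e : Fin m → E) (hC : IsChain ends f e)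
    (hconn : ∀ i, IsConnecting ends (e i)) (hβm : ∀ i, β (f i) = m)
    (hα : ∀ i, mfMatrix ends β (f i) (f i) = -2) :
    ∃ (g : ℕ → V) (d : ℕ → E), CD ends β m g d ∧ g 0 = f 0 ∧
      ∀ e', e' ∈ Finset.univ.image e ↔ ∃ i < m, d i = e' := by
  have hm : 0 < m := by
    have h1 := (hβ (f 0)).1
    rw [hβm 0] at h1
    exact_mod_cast h1
  obtain ⟨g, hg⟩ : ∃ g : ℕ → V, ∀ i (hi : i < m + 1), g i = f ⟨i, hi⟩ :=
    ⟨fun i => if hi : i < m + 1 then f ⟨i, hi⟩ else f 0, fun i hi => by simp [hi]⟩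
  obtain ⟨d, hd⟩ : ∃ d : ℕ → E, ∀ i (hi : i < m), d i = e ⟨i, hi⟩ :=
    ⟨fun i => if hi : i < m then e ⟨i, hi⟩ else e ⟨0, hm⟩, fun i hi => by simp [hi]⟩
  refine ⟨g, d, ⟨hβ, hm, ?_, ?_, ?_, ?_, ?_⟩, ?_, ?_⟩
  · intro i hi
    rw [hg i (by omega), hg (i + 1) (by omega), hd i hi]
    exact hC.2.2 ⟨i, hi⟩
  · intro i hi j hj hij
    rw [hg i (by omega), hg j (by omega)] at hij
    have := hC.1 hij
    simpa using this
  · intro i hi
    rw [hd i hi]
    exact hconn _
  · intro i hi
    rw [hg i (by omega)]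
    exact hβm _
  · intro i hi
    rw [hg i (by omega)]
    exact hα _
  · exact hg 0 (by omega)
  · intro e'
    rw [Finset.mem_image]
    constructor
    · rintro ⟨i, _, rfl⟩
      exact ⟨i.1, i.2, hd i.1 i.2⟩
    · rintro ⟨i, hi, rfl⟩
      exact ⟨⟨i, hi⟩, Finset.mem_univ _, (hd i hi).symm⟩

variable {ends : E → V × V} {D : Finset E}

/-- The lift as a linear map. -/
noncomputable def liftLin (ends : E → V × V) (D : Finset E) (v₀ : V) :
    (DualGr.CtrVert ends D → ℤ) →ₗ[ℤ] (V → ℤ) where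
  toFun x := liftAt ends D v₀ x
  map_add' x y := by
    funext v
    simp only [liftAt, Pi.add_apply]
    split_ifs <;> simp
  map_smul' n x := by
    funext v
    simp only [liftAt, RingHom.id_apply, Pi.smul_apply, smul_eq_mul]
    split_ifs <;> simp

theorem liftLin_apply (v₀ : V) (x : DualGr.CtrVert ends D → ℤ) :
    liftLin ends D v₀ x = liftAt ends D v₀ x := rfl

end K794.Chain
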