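import Groth.Agent.LabGraph.K794.Basic

/-!
# Systems of congruences along the edges of a labelled multigraph and circuit-coprimality
-/

set_option autoImplicit false
set_option linter.unusedSectionVars false

universe u

namespace K794.Congruence

open LabGraph K794.Basic

variable {V E : Type u} [Fintype V] [Fintype E] [DecidableEq V] [DecidableEq E]

/-- For a circuit-coprime labelling the edges whose label is divisible by a prime contain no circuit. -/
theorem forest_of_circuitCoprime (ends : E → V × V) (l : E → ℕ) (h : IsCircuitCoprime ends l)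
    {p : ℕ} (hp : p.Prime) :
    ∀ C ⊆ (Finset.univ.filter fun e : E => p ∣ l e), ¬ IsCircuit ends C := by
  intro C hC hcirc
  have h1 := h C hcirc
  have h2 : p ∣ C.gcd l := Finset.dvd_gcd fun e he => (Finset.mem_filter.1 (hC he)).2
  rw [h1] at h2
  exact hp.one_lt.ne' (Nat.dvd_one.1 h2)

/-- The congruences `φ(e₂) - φ(e₁) ≡ x(e) mod l(e)` are solvable in a circuit-coprime labelled graph. -/
theorem exists_congruence_of_circuitCoprime (ends : E → V × V) (l : E → ℕ) (hl : ∀ e, 0 < l e)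
    (h : IsCircuitCoprime ends l) (x : E → ℤ) :
    ∃ φ : V → ℤ, ∀ e, (l e : ℤ) ∣ x e - (φ (ends e).2 - φ (ends e).1) := by
  classical
  -- a common multiple of all labels
  set L : ℕ := ∏ e : E, l e with hL
  have hL0 : L ≠ 0 := Finset.prod_ne_zero_iff.2 fun e _ => (hl e).ne'
  have hdvd : ∀ e, l e ∣ L := fun e => Finset.dvd_prod_of_mem _ (Finset.mem_univ e)
  -- local solutions
  have hloc : ∀ p : ℕ, ∃ φ : V → ℤ, p.Prime → ∀ e, p ∣ l e → φ (ends e).2 - φ (ends e).1 = x e := by
    intro p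
    by_cases hp : p.Prime
    · obtain ⟨φ, hφ⟩ := exists_potential_of_forest ends _ (forest_of_circuitCoprime ends l h hp) x
      exact ⟨φ, fun _ e he => hφ e (by simpa using he)⟩
    · exact ⟨fun _ => 0, fun h => absurd h hp⟩
  choose φ hφ using hloc
  -- glue: at each vertex, a common solution modulo the prime powers of `L`
  have hglue : ∀ v : V, ∃ a : ℤ, ∀ p ∈ L.primeFactors, ((p ^ L.factorization p : ℕ) : ℤ) ∣ a - φ p v := by
    intro v
    have := Ideal.exists_forall_sub_mem_ideal (R := ℤ) (ι := {p // p ∈ L.primeFactors})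
      (I := fun p => Ideal.span {((p.1 ^ L.factorization p.1 : ℕ) : ℤ)}) (by
        intro p q hpq
        have hpp := (Nat.prime_of_mem_primeFactors p.2)
        have hqq := (Nat.prime_of_mem_primeFactors q.2)
        have hne : p.1 ≠ q.1 := fun h => hpq (Subtype.ext h)
        change IsCoprime (Ideal.span {((p.1 ^ L.factorization p.1 : ℕ) : ℤ)})
          (Ideal.span {((q.1 ^ L.factorization q.1 : ℕ) : ℤ)})
        rw [Ideal.isCoprime_span_singleton_iff, Nat.isCoprime_iff_coprime]
        exact Nat.Coprime.pow _ _ ((Nat.coprime_primes hpp hqq).2 hne)) (fun p => φ p.1 v)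
    obtain ⟨a, ha⟩ := this
    exact ⟨a, fun p hp => Ideal.mem_span_singleton.1 (ha ⟨p, hp⟩)⟩
  choose a ha using hglue
  refine ⟨a, fun e => ?_⟩
  -- it suffices to check prime powers
  rw [Int.natCast_dvd, Nat.dvd_iff_prime_pow_dvd_dvd]
  intro p k hp hpk
  rcases Nat.eq_zero_or_pos k with rfl | hk
  · simp
  have hpe : p ∣ l e := (dvd_pow_self p hk.ne').trans hpk
  have hpL : p ∈ L.primeFactors := Nat.mem_primeFactors.2 ⟨hp, hpe.trans (hdvd e), hL0⟩
  have hkL : k ≤ L.factorization p := (hp.pow_dvd_iff_le_factorization hL0).1 (hpk.trans (hdvd e))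
  have hpow : ((p ^ k : ℕ) : ℤ) ∣ ((p ^ L.factorization p : ℕ) : ℤ) :=
    Int.natCast_dvd_natCast.2 (pow_dvd_pow p hkL)
  rw [← Int.natCast_dvd]
  have h1 := hpow.trans (ha (ends e).1 p hpL)
  have h2 := hpow.trans (ha (ends e).2 p hpL)
  have h3 := hφ p hp e hpe
  have : x e - (a (ends e).2 - a (ends e).1) =
      (a (ends e).1 - φ p (ends e).1) - (a (ends e).2 - φ p (ends e).2) := by
    rw [← h3]; ring
  rw [this]
  exact dvd_sub h1 h2

/-- If all systems of congruences are solvable modulo cycles, the labelled graph is circuit-coprime. -/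
theorem circuitCoprime_of_orthogonal (ends : E → V × V) (l : E → ℕ)
    (h : ∀ x : E → ℤ, ∃ y : E → ℤ, ∀ γ : E → ℤ, (∀ v : V, boundary ends γ v = 0) →
        ∑ e : E, γ e * (x e - (l e : ℤ) * y e) = 0) : IsCircuitCoprime ends l := by
  intro C hC
  by_contra hne
  obtain ⟨p, hp, hpd⟩ := Nat.exists_prime_and_dvd hne
  obtain ⟨e₀, he₀⟩ := hC.1
  obtain ⟨γ, hγC, hγ1, hγ0⟩ := exists_cycle_of_circuit hC he₀
  obtain ⟨y, hy⟩ := h (fun e => if e = e₀ then 1 else 0)
  have h0 := hy γ hγ0
  have h1 : ∑ e : E, γ e * ((if e = e₀ then (1 : ℤ) else 0) - (l e : ℤ) * y e) =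
      1 - ∑ e : E, γ e * ((l e : ℤ) * y e) := by
    simp_rw [mul_sub, Finset.sum_sub_distrib]
    congr 1
    simp [hγ1]
  rw [h1] at h0
  have h2 : (p : ℤ) ∣ ∑ e : E, γ e * ((l e : ℤ) * y e) := by
    refine Finset.dvd_sum fun e _ => ?_
    by_cases he : e ∈ C
    · have : (p : ℤ) ∣ (l e : ℤ) := Int.natCast_dvd_natCast.2 (hpd.trans (Finset.gcd_dvd he))
      exact Dvd.dvd.mul_left (Dvd.dvd.mul_right this _) _
    · rw [hγC e he, zero_mul]
      exact dvd_zero _
  have h3 : (p : ℤ) ∣ 1 := by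
    have : (1 : ℤ) = ∑ e : E, γ e * ((l e : ℤ) * y e) := by linarith
    rw [this]; exact h2
  have h4 := Int.natCast_dvd_natCast.1 (by exact_mod_cast h3 : ((p : ℕ) : ℤ) ∣ ((1 : ℕ) : ℤ))
  exact hp.one_lt.ne' (Nat.dvd_one.1 h4)

/-- Solvability of all congruence systems along the edges forces circuit-coprimality. -/
theorem circuitCoprime_of_congruence (ends : E → V × V) (l : E → ℕ)
    (h : ∀ x : E → ℤ, ∃ φ : V → ℤ, ∀ e, (l e : ℤ) ∣ x e - (φ (ends e).2 - φ (ends e).1)) :
    IsCircuitCoprime ends l := by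
  refine circuitCoprime_of_orthogonal ends l fun x => ?_
  obtain ⟨φ, hφ⟩ := h x
  choose y hy using hφ
  refine ⟨y, fun γ hγ => ?_⟩
  have : ∀ e, γ e * (x e - (l e : ℤ) * y e) = γ e * (φ (ends e).2 - φ (ends e).1) := by
    intro e
    rw [← hy e]
    ring
  simp_rw [this]
  rw [sum_mul_coboundary]
  exact Finset.sum_eq_zero fun v _ => by rw [hγ v, mul_zero]

end K794.Congruence
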