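import Groth.Agent.LabGraph.K794.Congruence

/-!
# Systems of congruences along the edges of a labelled multigraph: labels may be zero
-/

set_option autoImplicit false
set_option linter.unusedSectionVars false

universe u

namespace K794.Congruence0

open LabGraph K794.Basic K794.Congruence

variable {V E : Type u} [Fintype V] [Fintype E] [DecidableEq V] [DecidableEq E]

/-- The congruences `φ(e₂) - φ(e₁) ≡ x(e) mod l(e)` are solvable in a circuit-coprime labelled graph; the
labels may be zero (a congruence modulo zero is an equality). -/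
theorem exists_congruence (ends : E → V × V) (l : E → ℕ)
    (h : IsCircuitCoprime ends l) (x : E → ℤ) :
    ∃ φ : V → ℤ, ∀ e, (l e : ℤ) ∣ x e - (φ (ends e).2 - φ (ends e).1) := by
  classical
  -- a common multiple of all nonzero labels
  set L : ℕ := ∏ e ∈ Finset.univ.filter (fun e : E => l e ≠ 0), l e with hL
  have hL0 : L ≠ 0 := Finset.prod_ne_zero_iff.2 fun e he => (Finset.mem_filter.1 he).2
  have hdvd : ∀ e, l e ≠ 0 → l e ∣ L := fun e he =>
    Finset.dvd_prod_of_mem _ (Finset.mem_filter.2 ⟨Finset.mem_univ e, he⟩)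
  -- local solutions; also for a prime not dividing `L`
  have hloc : ∀ p : ℕ, ∃ φ : V → ℤ, p.Prime → ∀ e, p ∣ l e → φ (ends e).2 - φ (ends e).1 = x e := by
    intro p
    by_cases hp : p.Prime
    · obtain ⟨φ, hφ⟩ := exists_potential_of_forest ends _ (forest_of_circuitCoprime ends l h hp) x
      exact ⟨φ, fun _ e he => hφ e (by simpa using he)⟩
    · exact ⟨fun _ => 0, fun h => absurd h hp⟩
  choose φ hφ using hloc
  -- add an auxiliary prime so that the family is nonempty
  set s : Finset ℕ := insert 2 L.primeFactors with hs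
  have hsp : ∀ p ∈ s, p.Prime := by
    intro p hp
    rcases Finset.mem_insert.1 hp with rfl | hp
    · exact Nat.prime_two
    · exact Nat.prime_of_mem_primeFactors hp
  haveI : Nonempty {p // p ∈ s} := ⟨⟨2, Finset.mem_insert_self _ _⟩⟩
  -- coefficients
  have hcop : Pairwise (Function.onFun IsCoprime fun p : {p // p ∈ s} =>
      ((p.1 ^ L.factorization p.1 : ℕ) : ℤ)) := by
    intro p q hpq
    have hne : p.1 ≠ q.1 := fun h => hpq (Subtype.ext h)
    change IsCoprime ((p.1 ^ L.factorization p.1 : ℕ) : ℤ) ((q.1 ^ L.factorization q.1 : ℕ) : ℤ)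
    rw [Nat.isCoprime_iff_coprime]
    exact Nat.Coprime.pow _ _ ((Nat.coprime_primes (hsp _ p.2) (hsp _ q.2)).2 hne)
  have hcoeff : ∃ μ : {p // p ∈ s} → ℤ, (∑ p, μ p * ∏ q ∈ {p}ᶜ, ((q.1 ^ L.factorization q.1 : ℕ) : ℤ)) = 1 := by
    exact (exists_sum_eq_one_iff_pairwise_coprime' (s := fun p : {p // p ∈ s} =>
      ((p.1 ^ L.factorization p.1 : ℕ) : ℤ))).2 hcop
  obtain ⟨μ, hμ⟩ := hcoeff
  set c : {p // p ∈ s} → ℤ := fun p => μ p * ∏ q ∈ {p}ᶜ, ((q.1 ^ L.factorization q.1 : ℕ) : ℤ) with hc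
  have hc1 : ∑ p, c p = 1 := hμ
  have hcq : ∀ p q : {p // p ∈ s}, q ≠ p → ((q.1 ^ L.factorization q.1 : ℕ) : ℤ) ∣ c p := by
    intro p q hqp
    refine Dvd.dvd.mul_left (Finset.dvd_prod_of_mem _ ?_) _
    simpa using hqp
  refine ⟨fun v => ∑ p, c p * φ p.1 v, fun e => ?_⟩
  have hexp : x e - (∑ p, c p * φ p.1 (ends e).2 - ∑ p, c p * φ p.1 (ends e).1) =
      ∑ p, c p * (x e - (φ p.1 (ends e).2 - φ p.1 (ends e).1)) := by
    simp_rw [mul_sub, Finset.sum_sub_distrib]
    rw [← Finset.sum_mul, hc1]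
    ring
  rw [hexp]
  by_cases hle : l e = 0
  · rw [Finset.sum_eq_zero]
    · exact dvd_zero _
    · intro p _
      rw [hφ p.1 (hsp _ p.2) e (hle ▸ dvd_zero _)]
      ring
  · -- check prime powers
    rw [Int.natCast_dvd, Nat.dvd_iff_prime_pow_dvd_dvd]
    intro p k hp hpk
    rcases Nat.eq_zero_or_pos k with rfl | hk
    · simp
    have hpe : p ∣ l e := (dvd_pow_self p hk.ne').trans hpk
    have hpL : p ∈ s := Finset.mem_insert_of_mem (Nat.mem_primeFactors.2 ⟨hp, hpe.trans (hdvd e hle), hL0⟩)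
    have hkL : k ≤ L.factorization p := (hp.pow_dvd_iff_le_factorization hL0).1 (hpk.trans (hdvd e hle))
    have hpow : ((p ^ k : ℕ) : ℤ) ∣ ((p ^ L.factorization p : ℕ) : ℤ) :=
      Int.natCast_dvd_natCast.2 (pow_dvd_pow p hkL)
    rw [← Int.natCast_dvd]
    refine Finset.dvd_sum fun q _ => ?_
    by_cases hq : q = ⟨p, hpL⟩
    · subst hq
      rw [hφ p hp e hpe]
      simp
    · exact Dvd.dvd.mul_right (hpow.trans (hcq q ⟨p, hpL⟩ (Ne.symm hq))) _

end K794.Congruence0
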