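import Groth.Agent.LabGraph.K794.Tree

/-!
# Multiplicity functions, their matrices, contractions
-/

set_option autoImplicit false
set_option linter.unusedSectionVars false

universe u

namespace K794.Contract

open LabGraph K794.Basic

section Mult

variable {V E : Type u} [Fintype V] [Fintype E] [DecidableEq V] [DecidableEq E]

/-- The sum of the values of `x` over the edge-ends at `v` of the edges going from `v` to another vertex. -/
def nb (ends : E → V × V) (x : V → ℤ) (v : V) : ℤ :=
  ∑ e : E, ((if (ends e).1 = v ∧ (ends e).2 ≠ v then x (ends e).2 else 0) +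
    (if (ends e).2 = v ∧ (ends e).1 ≠ v then x (ends e).1 else 0))

theorem sum_erase_edgeMult (ends : E → V × V) (x : V → ℤ) (v : V) :
    ∑ w ∈ Finset.univ.erase v, x w * (edgeMult ends v w : ℤ) = nb ends x v := by
  unfold edgeMult nb
  simp_rw [Finset.natCast_card_filter, Finset.mul_sum]
  rw [Finset.sum_comm]
  refine Finset.sum_congr rfl fun e _ => ?_
  have h : ∀ w ∈ Finset.univ.erase v, x w * (if ends e = (v, w) ∨ ends e = (w, v) then (1 : ℤ) else 0) =
      (if (ends e).2 = w then (if (ends e).1 = v then x w else 0) else 0) +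
      (if (ends e).1 = w then (if (ends e).2 = v then x w else 0) else 0) := by
    intro w hw
    have hwv : w ≠ v := (Finset.mem_erase.1 hw).1
    rcases hab : ends e with ⟨a, b⟩
    simp only [Prod.mk.injEq]
    by_cases h1 : a = v <;> by_cases h2 : b = v <;> by_cases h3 : a = w <;> by_cases h4 : b = w <;>
      simp_all
  rw [Finset.sum_congr rfl h, Finset.sum_add_distrib, Finset.sum_ite_eq, Finset.sum_ite_eq]
  simp only [Finset.mem_erase, Finset.mem_univ, and_true]
  by_cases h1 : (ends e).1 = v <;> by_cases h2 : (ends e).2 = v <;> simp [h1, h2]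

theorem isMultFn_iff (ends : E → V × V) (β : V → ℤ) :
    IsMultFn ends β ↔ ∀ v : V, 0 < β v ∧ β v ∣ nb ends β v := by
  unfold IsMultFn
  simp_rw [sum_erase_edgeMult]

theorem mfMatrix_diag (ends : E → V × V) (β : V → ℤ) (v : V) :
    mfMatrix ends β v v = -(nb ends β v) / β v := by
  unfold mfMatrix
  rw [if_pos rfl, sum_erase_edgeMult]

theorem mfMatrix_diag_mul {ends : E → V × V} {β : V → ℤ} (hβ : IsMultFn ends β) (v : V) :
    mfMatrix ends β v v * β v = - nb ends β v := by
  rw [mfMatrix_diag]
  exact Int.ediv_mul_cancel ((dvd_neg).2 ((isMultFn_iff ends β).1 hβ v).2)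

theorem mulVec_eq (ends : E → V × V) (β : V → ℤ) (x : V → ℤ) (v : V) :
    (mfMatrix ends β).mulVec x v = nb ends x v + mfMatrix ends β v v * x v := by
  unfold Matrix.mulVec dotProduct
  rw [← Finset.sum_erase_add _ _ (Finset.mem_univ v), ← sum_erase_edgeMult]
  congr 1
  refine Finset.sum_congr rfl fun w hw => ?_
  have hwv : v ≠ w := (Finset.mem_erase.1 hw).1.symm
  have h1 : mfMatrix ends β v w = (edgeMult ends v w : ℤ) := by
    unfold mfMatrix
    rw [if_neg hwv]
  change mfMatrix ends β v w * x w = _
  rw [h1, mul_comm]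

theorem mulVec_beta {ends : E → V × V} {β : V → ℤ} (hβ : IsMultFn ends β) :
    (mfMatrix ends β).mulVec β = 0 := by
  funext v
  rw [mulVec_eq, mfMatrix_diag_mul hβ]
  simp

theorem edgeMult_comm (ends : E → V × V) (v w : V) : edgeMult ends v w = edgeMult ends w v := by
  unfold edgeMult
  congr 1
  ext e
  simp only [Finset.mem_filter, Finset.mem_univ, true_and]
  exact or_comm

theorem mfMatrix_transpose (ends : E → V × V) (β : V → ℤ) :
    (mfMatrix ends β).transpose = mfMatrix ends β := by
  ext v w
  rw [Matrix.transpose_apply]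
  unfold mfMatrix
  by_cases h : v = w
  · subst h; rfl
  · rw [if_neg h, if_neg (Ne.symm h), edgeMult_comm]

theorem betaHom_apply (β x : V → ℤ) : betaHom β x = ∑ v, x v * β v := by
  unfold betaHom
  rw [Fintype.linearCombination_apply]
  rfl

theorem betaHom_mulVec {ends : E → V × V} {β : V → ℤ} (hβ : IsMultFn ends β) (x : V → ℤ) :
    betaHom β ((mfMatrix ends β).mulVec x) = 0 := by
  rw [betaHom_apply]
  have h1 : ∑ v, (mfMatrix ends β).mulVec x v * β v = dotProduct ((mfMatrix ends β).mulVec x) β := rfl
  rw [h1, dotProduct_comm, Matrix.dotProduct_mulVec, ← Matrix.mulVec_transpose, mfMatrix_transpose,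
    mulVec_beta hβ, zero_dotProduct]

theorem nb_add (ends : E → V × V) (x y : V → ℤ) (v : V) :
    nb ends (fun u => x u + y u) v = nb ends x v + nb ends y v := by
  unfold nb
  rw [← Finset.sum_add_distrib]
  refine Finset.sum_congr rfl fun e _ => ?_
  split_ifs <;> ring

end Mult

section Ctr

variable {V E : Type u}

theorem ctrMk_eq_iff (ends : E → V × V) (D : Finset E) (v w : V) :
    DualGr.ctrMk ends D v = DualGr.ctrMk ends D w ↔ Reach ends D v w := by
  constructor
  · intro h
    have h1 : Relation.EqvGen (DualGr.CtrRel ends D) v w := Quotient.exact h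
    induction h1 with
    | rel a b hab =>
      obtain ⟨e, he, h⟩ := hab
      exact reach_edge' (by simpa using he) h
    | refl a => exact Reach.refl _ _ _
    | symm a b _ ih => exact (ih (Quotient.sound (by assumption))).symm
    | trans a b c _ _ ih1 ih2 =>
      exact (ih1 (Quotient.sound (by assumption))).trans (ih2 (Quotient.sound (by assumption)))
  · intro h
    exact h.eq_of_const fun e he => DualGr.ctrMk_fst_eq_ctrMk_snd ends D (by simpa using he)

theorem ctrFn_mk (ends : E → V × V) (D : Finset E) (β : V → ℤ)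
    (h : ∀ e ∈ D, β (ends e).1 = β (ends e).2) (v : V) :
    ctrFn ends D β (DualGr.ctrMk ends D v) = β v := by
  unfold ctrFn
  have h1 : DualGr.ctrMk ends D (Quotient.out (s := DualGr.ctrSetoid ends D) (DualGr.ctrMk ends D v)) =
      DualGr.ctrMk ends D v := Quotient.out_eq (s := DualGr.ctrSetoid ends D) _
  exact ((ctrMk_eq_iff ends D _ _).1 h1).eq_of_const fun e he => h e (by simpa using he)

variable [Fintype V] [Fintype E] [DecidableEq V] [DecidableEq E]

theorem nb_ctr (ends : E → V × V) (D : Finset E) (x : DualGr.CtrVert ends D → ℤ) (c : DualGr.CtrVert ends D) :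
    nb (DualGr.ctrEnds ends D) x c =
      ∑ e : E, ((if DualGr.ctrMk ends D (ends e).1 = c ∧ DualGr.ctrMk ends D (ends e).2 ≠ c then
          x (DualGr.ctrMk ends D (ends e).2) else 0) +
        (if DualGr.ctrMk ends D (ends e).2 = c ∧ DualGr.ctrMk ends D (ends e).1 ≠ c then
          x (DualGr.ctrMk ends D (ends e).1) else 0)) := by
  unfold nb DualGr.ctrEnds
  refine Eq.trans (b := ∑ e ∈ Finset.univ.filter (fun e : E => e ∉ D),
    ((if DualGr.ctrMk ends D (ends e).1 = c ∧ DualGr.ctrMk ends D (ends e).2 ≠ c then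
          x (DualGr.ctrMk ends D (ends e).2) else 0) +
        (if DualGr.ctrMk ends D (ends e).2 = c ∧ DualGr.ctrMk ends D (ends e).1 ≠ c then
          x (DualGr.ctrMk ends D (ends e).1) else 0))) ?_ ?_
  · exact (Finset.sum_subtype (Finset.univ.filter (fun e : E => e ∉ D)) (p := fun e => e ∉ D)
      (by intro e; simp) (fun e : E => ((if DualGr.ctrMk ends D (ends e).1 = c ∧ DualGr.ctrMk ends D (ends e).2 ≠ c then
          x (DualGr.ctrMk ends D (ends e).2) else 0) +
        (if DualGr.ctrMk ends D (ends e).2 = c ∧ DualGr.ctrMk ends D (ends e).1 ≠ c then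
          x (DualGr.ctrMk ends D (ends e).1) else 0)))).symm
  · refine Finset.sum_subset (Finset.filter_subset _ _) fun e _ he => ?_
    have heD : e ∈ D := by
      by_contra h
      exact he (Finset.mem_filter.2 ⟨Finset.mem_univ _, h⟩)
    have := DualGr.ctrMk_fst_eq_ctrMk_snd ends D heD
    rw [if_neg, if_neg, add_zero]
    · rintro ⟨h1, h2⟩
      exact h2 (this.trans h1)
    · rintro ⟨h1, h2⟩
      exact h2 (this.symm.trans h1)

/-- Contracting edges across which `β` is constant gives again a multiplicity function. -/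
theorem isMultFn_ctr (ends : E → V × V) (β : V → ℤ) (hβ : IsMultFn ends β) (D : Finset E)
    (h : ∀ e ∈ D, β (ends e).1 = β (ends e).2) :
    IsMultFn (DualGr.ctrEnds ends D) (ctrFn ends D β) := by
  rw [isMultFn_iff] at hβ ⊢
  intro c
  obtain ⟨v₀, rfl⟩ := DualGr.ctrMk_surjective ends D c
  rw [ctrFn_mk ends D β h]
  refine ⟨(hβ v₀).1, ?_⟩
  rw [nb_ctr]
  set b := β v₀ with hb
  set c := DualGr.ctrMk ends D v₀ with hc
  have hclass : ∀ v, DualGr.ctrMk ends D v = c → β v = b := by
    intro v hv
    exact ((ctrMk_eq_iff ends D _ _).1 hv).eq_of_const fun e he => h e (by simpa using he)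
  simp_rw [ctrFn_mk ends D β h]
  -- split the sum over the vertices of the class
  have hsplit : ∑ e : E, ((if DualGr.ctrMk ends D (ends e).1 = c ∧ DualGr.ctrMk ends D (ends e).2 ≠ c then
          β (ends e).2 else 0) +
        (if DualGr.ctrMk ends D (ends e).2 = c ∧ DualGr.ctrMk ends D (ends e).1 ≠ c then
          β (ends e).1 else 0)) =
      ∑ v ∈ Finset.univ.filter (fun v => DualGr.ctrMk ends D v = c), ∑ e : E,
        ((if (ends e).1 = v ∧ DualGr.ctrMk ends D (ends e).2 ≠ c then β (ends e).2 else 0) +
        (if (ends e).2 = v ∧ DualGr.ctrMk ends D (ends e).1 ≠ c then β (ends e).1 else 0)) := by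
    rw [Finset.sum_comm]
    refine Finset.sum_congr rfl fun e _ => ?_
    rw [Finset.sum_add_distrib]
    have hh : ∀ (P : Prop) [Decidable P] (a : V) (t : ℤ),
        ∑ v ∈ Finset.univ.filter (fun v => DualGr.ctrMk ends D v = c), (if a = v ∧ P then t else 0) =
        if DualGr.ctrMk ends D a = c ∧ P then t else 0 := by
      intro P _ a t
      simp_rw [ite_and]
      rw [Finset.sum_ite_eq]
      simp
    rw [hh, hh]
  rw [hsplit]
  refine Finset.dvd_sum fun v hv => ?_
  have hvc : DualGr.ctrMk ends D v = c := (Finset.mem_filter.1 hv).2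
  have h1 := (hβ v).2
  rw [hclass v hvc] at h1
  -- the difference with `nb` is divisible by `b`
  have h2 : nb ends β v - ∑ e : E,
        ((if (ends e).1 = v ∧ DualGr.ctrMk ends D (ends e).2 ≠ c then β (ends e).2 else 0) +
        (if (ends e).2 = v ∧ DualGr.ctrMk ends D (ends e).1 ≠ c then β (ends e).1 else 0)) =
      ∑ e : E, ((if (ends e).1 = v ∧ (ends e).2 ≠ v ∧ DualGr.ctrMk ends D (ends e).2 = c then b else 0) +
        (if (ends e).2 = v ∧ (ends e).1 ≠ v ∧ DualGr.ctrMk ends D (ends e).1 = c then b else 0)) := by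
    unfold nb
    rw [← Finset.sum_sub_distrib]
    refine Finset.sum_congr rfl fun e _ => ?_
    have hx : ∀ a a' : V, ((if a = v ∧ a' ≠ v then β a' else 0) -
        (if a = v ∧ DualGr.ctrMk ends D a' ≠ c then β a' else 0)) =
        if a = v ∧ a' ≠ v ∧ DualGr.ctrMk ends D a' = c then b else 0 := by
      intro a a'
      by_cases h1 : a = v
      · by_cases h2 : a' = v
        · subst h2
          simp [hvc]
        · by_cases h3 : DualGr.ctrMk ends D a' = c
          · simp [h1, h2, h3, hclass a' h3]
          · simp [h1, h2, h3]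
      · simp [h1]
    linear_combination hx (ends e).1 (ends e).2 + hx (ends e).2 (ends e).1
  have h3 : b ∣ nb ends β v - ∑ e : E,
        ((if (ends e).1 = v ∧ DualGr.ctrMk ends D (ends e).2 ≠ c then β (ends e).2 else 0) +
        (if (ends e).2 = v ∧ DualGr.ctrMk ends D (ends e).1 ≠ c then β (ends e).1 else 0)) := by
    rw [h2]
    refine Finset.dvd_sum fun e _ => dvd_add ?_ ?_ <;> split_ifs <;> simp
  exact (dvd_sub_right h1).1 h3

end Ctr

end K794.Contract
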