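import Groth.Agent.LabGraph.K794.Basic
import Mathlib.LinearAlgebra.Span.Basic

/-!
# Cartier functions are spanned by elementary Cartier functions
-/

set_option autoImplicit false
set_option linter.unusedSectionVars false

universe u

namespace K794.Elem

open LabGraph K794.Basic

variable {V E : Type u}

/-- Elementary Cartier functions. -/
def elem (ends : E → V × V) (l : E → ℕ) : Set (V → ℤ) :=
  {g : V → ℤ | ∃ n : ℕ, 0 < n ∧ (∀ v, (n : ℤ) ∣ g v) ∧
      ∀ e, ¬ (l e ∣ n) → g (ends e).1 = g (ends e).2}

/-- Multiplying by `p` sends elementary functions for the labels `l / gcd(l, p)` to elementary functions for `l`. -/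
theorem smul_mem_span (ends : E → V × V) (l : E → ℕ) {p : ℕ} (hp : 0 < p)
    {f : V → ℤ} (hf : f ∈ Submodule.span ℤ (elem ends fun e => l e / Nat.gcd (l e) p)) :
    (p : ℤ) • f ∈ Submodule.span ℤ (elem ends l) := by
  induction hf using Submodule.span_induction with
  | mem g hg =>
    obtain ⟨n, hn, hdvd, hconst⟩ := hg
    refine Submodule.subset_span ⟨p * n, Nat.mul_pos hp hn, fun v => ?_, fun e he => ?_⟩
    · push_cast
      rw [Pi.smul_apply, smul_eq_mul]
      exact mul_dvd_mul_left _ (hdvd v)
    · rw [Pi.smul_apply, Pi.smul_apply]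
      congr 1
      refine hconst e fun h => he ?_
      have h1 : Nat.gcd (l e) p * (l e / Nat.gcd (l e) p) = l e := Nat.mul_div_cancel' (Nat.gcd_dvd_left _ _)
      rw [← h1]
      exact mul_dvd_mul (Nat.gcd_dvd_right _ _) h
  | zero => rw [smul_zero]; exact Submodule.zero_mem _
  | add x y _ _ hx hy => rw [smul_add]; exact Submodule.add_mem _ hx hy
  | smul a x _ hx => rw [smul_comm]; exact Submodule.smul_mem _ _ hx

theorem mem_span_elementary (ends : E → V × V) (L : ℕ) (hL : 0 < L) :
    ∀ (l : E → ℕ), (∀ e, 0 < l e) → (∀ e, l e ∣ L) → ∀ f : V → ℤ, IsCartier ends l f →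
      f ∈ Submodule.span ℤ (elem ends l) := by
  classical
  induction L using Nat.strong_induction_on with
  | _ L ih =>
    intro l hl hlL f hf
    by_cases hL1 : L = 1
    · refine Submodule.subset_span ⟨1, one_pos, fun v => ?_, fun e he => ?_⟩
      · simp
      · exact absurd (hL1 ▸ hlL e) he
    · obtain ⟨p, hp, hpL⟩ := Nat.exists_prime_and_dvd hL1
      -- prime-to-`p` part of `L`
      obtain ⟨k, s, hs, hLs⟩ := Nat.exists_eq_pow_mul_and_not_dvd hL.ne' p hp.one_lt.ne'
      have hs0 : 0 < s := Nat.pos_of_ne_zero fun h => hs (h ▸ dvd_zero p)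
      have hps : IsCoprime (s : ℤ) (p : ℤ) := by
        rw [Nat.isCoprime_iff_coprime]
        exact ((Nat.Prime.coprime_iff_not_dvd hp).2 hs).symm
      obtain ⟨a, b, hab⟩ := hps
      -- a function constant on the pieces of the edges with label divisible by `p`, congruent to `f` mod `p`
      let F : Set E := {e | p ∣ l e}
      let rel : Setoid V := ⟨Reach ends F, Reach.refl ends F, Reach.symm, Reach.trans⟩
      let g : V → ℤ := fun v => f (Quotient.out (Quotient.mk rel v))
      have hgc : ∀ e, p ∣ l e → g (ends e).1 = g (ends e).2 := by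
        intro e he
        have : (Quotient.mk rel (ends e).1) = Quotient.mk rel (ends e).2 :=
          Quotient.sound (reach_edge (ends := ends) (F := F) he)
        simp only [g, this]
      have hgf : ∀ v, (p : ℤ) ∣ f v - g v := by
        intro v
        have h1 : Reach ends F (Quotient.out (Quotient.mk rel v)) v :=
          Quotient.exact (Quotient.out_eq (Quotient.mk rel v))
        have h2 := h1.eq_of_const (f := fun v => ((f v : ℤ) : ZMod p)) (fun e he => by
          have h3 : (p : ℤ) ∣ f (ends e).1 - f (ends e).2 := (Int.natCast_dvd_natCast.2 he).trans (hf e)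
          exact ((ZMod.intCast_eq_intCast_iff_dvd_sub _ _ _).2 (by
            rw [← neg_sub]; exact (dvd_neg).2 h3)))
        exact (ZMod.intCast_eq_intCast_iff_dvd_sub _ _ _).1 h2
      -- first part
      have hg1 : (a • (s : ℤ) • g) ∈ Submodule.span ℤ (elem ends l) := by
        refine Submodule.smul_mem _ _ (Submodule.subset_span ⟨s, hs0, fun v => ?_, fun e he => ?_⟩)
        · rw [Pi.smul_apply, smul_eq_mul]
          exact dvd_mul_right _ _
        · rw [Pi.smul_apply, Pi.smul_apply, hgc e]
          by_contra hpe
          refine he ?_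
          have h1 : l e ∣ p ^ k * s := hLs ▸ hlL e
          exact (Nat.Coprime.pow_right k ((Nat.Prime.coprime_iff_not_dvd hp).2 hpe).symm).dvd_of_dvd_mul_left h1
      -- second part
      have hdiv : ∀ v, (p : ℤ) ∣ f v - a * s * g v := by
        intro v
        have : f v - a * s * g v = (f v - g v) + (p : ℤ) * (b * g v) := by
          linear_combination (-(g v)) * hab
        rw [this]
        exact dvd_add (hgf v) (dvd_mul_right _ _)
      choose f1 hf1 using hdiv
      have hL' : L / p < L := Nat.div_lt_self hL hp.one_lt
      have hL'0 : 0 < L / p := Nat.div_pos (Nat.le_of_dvd hL hpL) hp.pos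
      have hgcdpos : ∀ e, 0 < Nat.gcd (l e) p := fun e => Nat.gcd_pos_of_pos_left _ (hl e)
      have hmem := ih (L / p) hL' hL'0 (fun e => l e / Nat.gcd (l e) p)
        (fun e => Nat.div_pos (Nat.le_of_dvd (hl e) (Nat.gcd_dvd_left _ _)) (hgcdpos e)) (fun e => by
          rcases (Nat.dvd_prime hp).1 (Nat.gcd_dvd_right (l e) p) with h | h
          · rw [h, Nat.div_one]
            have : Nat.Coprime (l e) p := h
            refine this.dvd_of_dvd_mul_left (m := p) ?_
            rw [Nat.mul_div_cancel' hpL]
            exact hlL e
          · rw [h]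
            exact Nat.div_dvd_div (h ▸ Nat.gcd_dvd_left (l e) p) (hlL e)) f1 (fun e => by
          have hgd : (l e : ℤ) ∣ a * s * g (ends e).1 - a * s * g (ends e).2 := by
            by_cases hpe : p ∣ l e
            · rw [hgc e hpe, sub_self]
              exact dvd_zero _
            · have h1 : l e ∣ p ^ k * s := hLs ▸ hlL e
              have h2 : l e ∣ s :=
                (Nat.Coprime.pow_right k ((Nat.Prime.coprime_iff_not_dvd hp).2 hpe).symm).dvd_of_dvd_mul_left h1
              have h3 : (l e : ℤ) ∣ (s : ℤ) := Int.natCast_dvd_natCast.2 h2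
              have : a * s * g (ends e).1 - a * s * g (ends e).2 = (s : ℤ) * (a * (g (ends e).1 - g (ends e).2)) := by
                ring
              rw [this]
              exact Dvd.dvd.mul_right h3 _
          have hpt : (l e : ℤ) ∣ (p : ℤ) * (f1 (ends e).1 - f1 (ends e).2) := by
            have : (p : ℤ) * (f1 (ends e).1 - f1 (ends e).2) =
                (f (ends e).1 - f (ends e).2) - (a * s * g (ends e).1 - a * s * g (ends e).2) := by
              rw [mul_sub, ← hf1, ← hf1]
              ring
            rw [this]
            exact dvd_sub (hf e) hgd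
          rcases (Nat.dvd_prime hp).1 (Nat.gcd_dvd_right (l e) p) with h | h
          · simp only [h, Nat.div_one]
            have : Nat.Coprime (l e) p := h
            exact (Nat.isCoprime_iff_coprime.2 this).dvd_of_dvd_mul_left hpt
          · simp only [h]
            obtain ⟨c, hc⟩ : p ∣ l e := h ▸ Nat.gcd_dvd_left (l e) p
            rw [hc, Nat.mul_div_cancel_left _ hp.pos]
            rw [hc] at hpt
            push_cast at hpt
            exact (mul_dvd_mul_iff_left (by exact_mod_cast hp.ne_zero)).1 hpt)
      have hmem' := smul_mem_span ends l hp.pos hmem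
      have : f = (a • (s : ℤ) • g) + (p : ℤ) • f1 := by
        funext v
        rw [Pi.add_apply, Pi.smul_apply, Pi.smul_apply, Pi.smul_apply, smul_eq_mul, smul_eq_mul, smul_eq_mul,
          ← hf1 v]
        ring
      rw [this]
      exact Submodule.add_mem _ hg1 hmem'

end K794.Elem
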