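import Groth.Prelude.Def_W4c2conddiscmodels
import Groth.Agent.LabGraph.K794.Basic

/-!
# Spanning trees
-/

set_option autoImplicit false
set_option linter.unusedSectionVars false

universe u

namespace K794.Tree

open LabGraph K794.Basic

variable {V E : Type u}

theorem endCount_sub [DecidableEq V] (ends : E → V × V) (T : Finset E) (C : Finset T) (v : V) :
    endCount (fun e : T => ends e.1) C v = endCount ends (C.map (Function.Embedding.subtype _)) v := by
  unfold endCount
  rw [Finset.sum_map]
  rfl

theorem isCircuit_sub_iff [DecidableEq V] (ends : E → V × V) (T : Finset E) (C : Finset T) :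
    IsCircuit (fun e : T => ends e.1) C ↔ IsCircuit ends (C.map (Function.Embedding.subtype _)) := by
  classical
  unfold IsCircuit
  rw [Finset.map_nonempty]
  refine and_congr_right fun _ => and_congr ?_ ?_
  · exact forall_congr' fun v => by rw [endCount_sub]
  · constructor
    · intro h C' hC' hne
      have hsub : ∀ x ∈ C', x ∈ T := by
        intro x hx
        obtain ⟨y, _, rfl⟩ := Finset.mem_map.1 (hC'.subset hx)
        exact y.2
      set C'' : Finset T := C'.subtype (· ∈ T) with hC''
      have hmap : C''.map (Function.Embedding.subtype _) = C' := by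
        rw [hC'', Finset.subtype_map, Finset.filter_eq_self]
        exact hsub
      have hss : C'' ⊂ C := by
        rw [← Finset.map_ssubset_map (f := Function.Embedding.subtype (· ∈ T)), hmap]
        exact hC'
      obtain ⟨v, hv⟩ := h C'' hss (by
        rw [← Finset.map_nonempty (f := Function.Embedding.subtype (· ∈ T)), hmap]
        exact hne)
      rw [endCount_sub, hmap] at hv
      exact ⟨v, hv⟩
    · intro h C' hC' hne
      obtain ⟨v, hv⟩ := h (C'.map (Function.Embedding.subtype _)) (Finset.map_ssubset_map.2 hC')
        (Finset.map_nonempty.2 hne)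
      rw [← endCount_sub] at hv
      exact ⟨v, hv⟩

theorem reach_sub_iff (ends : E → V × V) (T : Finset E) (v w : V) :
    Relation.ReflTransGen (Adj (fun e : T => ends e.1)) v w ↔ Reach ends T v w := by
  have : (Adj (fun e : T => ends e.1)) = (fun a b => ∃ e ∈ (T : Set E), ends e = (a, b) ∨ ends e = (b, a)) := by
    funext a b
    unfold Adj
    apply propext
    constructor
    · rintro ⟨e, he⟩
      exact ⟨e.1, e.2, he⟩
    · rintro ⟨e, heT, he⟩
      exact ⟨⟨e, heT⟩, he⟩
  unfold Reach
  rw [this]

theorem isForest_sub_iff [DecidableEq V] (ends : E → V × V) (T : Finset E) :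
    (∀ C : Finset T, ¬ IsCircuit (fun e : T => ends e.1) C) ↔ ∀ C ⊆ T, ¬ IsCircuit ends C := by
  classical
  constructor
  · intro h C hC hcirc
    have hmap : (C.subtype (· ∈ T)).map (Function.Embedding.subtype _) = C := by
      rw [Finset.subtype_map, Finset.filter_eq_self]
      exact fun x hx => hC hx
    refine h (C.subtype (· ∈ T)) ?_
    rw [isCircuit_sub_iff, hmap]
    exact hcirc
  · intro h C hC
    rw [isCircuit_sub_iff] at hC
    refine h _ ?_ hC
    intro x hx
    obtain ⟨y, _, rfl⟩ := Finset.mem_map.1 hx
    exact y.2

theorem isSpanningTree_iff [Fintype V] [Fintype E] [DecidableEq V] [DecidableEq E]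
    (ends : E → V × V) (T : Finset E) :
    IsSpanningTree ends T ↔ Nonempty V ∧ (∀ v w : V, Reach ends T v w) ∧ ∀ C ⊆ T, ¬ IsCircuit ends C := by
  unfold IsSpanningTree DualGr.IsTree DualGr.IsForest Connected
  rw [isForest_sub_iff, and_assoc]
  refine and_congr_right fun _ => and_congr_left fun _ => ?_
  exact forall_congr' fun v => forall_congr' fun w => reach_sub_iff ends T v w

end K794.Tree
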